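import Cfsg.Agent.KFacts.ON.Qs
import Mathlib
import Cfsg.Agent.CpAut.RankOne
import Cfsg.Agent.H341.ThreeList_m3
import Cfsg.Agent.GTwoOdd.HexField_m3
import Cfsg.Agent.S0262
import Cfsg.Agent.S0242
import Cfsg.Agent.S0243
import Cfsg.Agent.CpAut.SporThree.Cent
import Cfsg.Agent.CpAut.SpSix
import Cfsg.Agent.KFacts.ON.Words_m3
import Cfsg.Agent.OddHalf.D8.SheetMap_m3
import Cfsg.Agent.R04.ONThree
import Cfsg.Agent.FastGrp
import Cfsg.Agent.Prune
set_option linter.all false

section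
prune_inst 0x7f00000000000000000000000000000000000000000000000000000000000000000000000000000000000000000000000000000000000000000000000000000000000000000000000000000000000000003fffffffffffffffffffffffffffbeffbdffffffff

-- part: CpAut/SporThree/ONInv
section
set_option linter.all false
open scoped Cfsg.Agent.FastGrp

namespace Cfsg.Agent.PFeaf8e50f
open Cfsg.Agent.Lib.PackMat
/-- salted copies of the `PackMat` loops (no collisions in the kernel caches) -/
private noncomputable def pF (r LO HI nf : ℕ) : ℕ → ℕ :=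
  Nat.rec (fun F => F) (fun _ ih F => ih (Nat.add (Nat.land F LO) (Nat.land (Nat.shiftRight F r) HI))) nf
private noncomputable def pN (p m t HT F : ℕ) : ℕ :=
  Nat.sub F (Nat.mul p (Nat.land (Nat.shiftRight (Nat.mul F m) t) HT))
private noncomputable def pR (p r m t nf GM FM LO HI HT : ℕ) (w : List ℕ) : ℕ → ℕ → ℕ :=
  List.rec (fun _ R => R) (fun g _ ih c R => force (pN p m t HT (pF r LO HI nf
    (Nat.mod (Nat.land (Nat.mul (Nat.add R (Nat.sub c c)) g) GM) FM))) (ih (Nat.succ c))) w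
private theorem pF_eq (r LO HI nf : ℕ) : ∀ F, pF r LO HI nf F = foldK r LO HI nf F := by
  induction nf with
  | zero => exact fun _ => rfl
  | succ k ih => exact fun F => ih _
private theorem pR_eq (p r m t nf GM FM LO HI HT : ℕ) (w : List ℕ) :
    ∀ c R, pR p r m t nf GM FM LO HI HT w c R = runK p r m t nf GM FM LO HI HT w R := by
  induction w with
  | nil => exact fun _ _ => rfl
  | cons g w ih =>
    intro c R
    refine (ih (Nat.succ c) (pN p m t HT (pF r LO HI nf
      (Nat.mod (Nat.land (Nat.mul (Nat.add R (Nat.sub c c)) g) GM) FM)))).trans ?_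
    rewrite [pF_eq, show Nat.sub c c = 0 from Nat.sub_self c]
    rfl
private noncomputable def pE (s p r m t nf GM FM LO HI HT : ℕ) (w₁ w₂ : List ℕ) (cnt : ℕ) : ℕ → Bool :=
  Nat.rec (fun _ => true) (fun i ih R => bif Nat.beq (pR p r m t nf GM FM LO HI HT w₁ (Nat.mul i 2000000) R)
    (pR p r m t nf GM FM LO HI HT w₂ (Nat.add (Nat.mul i 2000000) 1000000) R) then
      force (Nat.shiftRight R s) ih else false) cnt
private theorem eK : @checkEqK = pE := by
  funext s p r m t nf GM FM LO HI HT w₁ w₂ cnt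
  induction cnt with
  | zero => rfl
  | succ i ih =>
    funext R
    exact congrArg₂ (fun a b => bif a then b else false)
      (congrArg₂ Nat.beq (pR_eq ..).symm (pR_eq ..).symm) (congrFun ih _)
private noncomputable def pK (p r m t nf GM FM LO HI HT : ℕ) (w : List ℕ) (R : ℕ) : ℕ :=
  force (Nat.mod R 18446744073709551557) fun c => pR p r m t nf GM FM LO HI HT w c R
private theorem rK : @runK = pK := by
  funext p r m t nf GM FM LO HI HT w R
  exact (pR_eq ..).symm
end Cfsg.Agent.PFeaf8e50f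
set_option linter.all false

-- part: CpAut/SporThree/ONInvA
section
/-!
# O'Nan: the 2-elements of `J = C(v)` modulo `⟨v⟩`: the table checks (helper10)
-/

set_option autoImplicit false
set_option maxRecDepth 100000
set_option Elab.async false

namespace Cfsg.Agent.CpAut.SporThree.ONInv

open Cfsg.Agent.KFacts.ON.Words Cfsg.Agent.KFacts.ON.Struct Cfsg.Agent.KFacts.ON.Qs
open Cfsg.Agent.ONType
open Cfsg.Agent.ONType.TupRow (gJ eqJ neJ eqJ_spec neJ_spec)

/-- conjugating words -/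
def cl : List (List ℕ) := [[], [6, 5, 0, 6], [6, 5, 0, 6, 1], [6, 5, 0, 6, 2], [6, 5, 0, 6, 1, 0], [6, 5, 0, 6, 1, 2],
  [6, 5, 0, 6, 2, 0], [6, 5, 0, 6, 1, 0, 1], [6, 5, 0, 6, 1, 0, 2]]

/-- `w ∉ J`, or `w² ∉ ⟨v⟩`, or `w` is conjugate into `E⟨v⟩` -/
noncomputable def okc (x : List ℕ) : Bool :=
  neJ (x ++ vw) (vw ++ x) || (vl.all fun z => neJ (x ++ x) z) ||
    cl.any fun u => el8.any fun e => eqJ (u ++ x) (e ++ u) || eqJ (u ++ x) (e ++ (vw ++ u))

/-- the check for the nodes `i`, `a ≤ i < b` -/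
noncomputable def part (f : List ℕ → Bool) (a b : ℕ) : Bool :=
  TupCover.allBelow (fun i => bif Nat.blt i a then true else
    (bif TupCover.dead TupTData.C i then true else f (TupCover.nword TupTData.C i))) b

theorem allBelow_of {f : ℕ → Bool} {k : ℕ} (h : ∀ i < k, f i = true) : TupCover.allBelow f k = true := by
  induction k with
  | zero => rfl
  | succ k ih =>
    change (bif f k then TupCover.allBelow f k else false) = true
    rw [h k (Nat.lt_succ_self k), cond_true]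
    exact ih fun i hi => h i (Nat.lt_succ_of_lt hi)

theorem part_spec {f : List ℕ → Bool} {a b : ℕ} (h : part f a b = true) {i : ℕ} (ha : a ≤ i) (hb : i < b) :
    (bif TupCover.dead TupTData.C i then true else f (TupCover.nword TupTData.C i)) = true := by
  have h1 := TupCover.allBelow_spec h i hb
  have h2 : Nat.blt i a = false := by
    rw [← Bool.not_eq_true, TupCover.blt_iff]
    omega
  simp only [h2, cond_false] at h1
  exact h1

theorem allLive_of {f : List ℕ → Bool} (h0 : part f 0 60 = true) (h1 : part f 60 120 = true)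
    (h2 : part f 120 180 = true) (h3 : part f 180 240 = true) (h4 : part f 240 300 = true)
    (h5 : part f 300 342 = true) : TupCover.allLive TupTData.C (fun _ x => f x) = true := by
  apply allBelow_of
  intro i hi
  have hi' : i < 342 := hi
  by_cases c1 : i < 60
  · exact part_spec h0 (Nat.zero_le _) c1
  by_cases c2 : i < 120
  · exact part_spec h1 (by omega) c2
  by_cases c3 : i < 180
  · exact part_spec h2 (by omega) c3
  by_cases c4 : i < 240
  · exact part_spec h3 (by omega) c4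
  by_cases c5 : i < 300
  · exact part_spec h4 (by omega) c5
  · exact part_spec h5 (by omega) hi'

theorem p00 : part okc 0 60 = true := by (delta okc neJ TupRow.rowNe eqJ TupRow.eqM Lib.PackMat.checkEq; rewrite [Cfsg.Agent.PFeaf8e50f.rK, Cfsg.Agent.PFeaf8e50f.eK]; decide +kernel)
theorem p01 : part okc 60 120 = true := by (delta okc neJ TupRow.rowNe eqJ TupRow.eqM Lib.PackMat.checkEq; rewrite [Cfsg.Agent.PFeaf8e50f.rK, Cfsg.Agent.PFeaf8e50f.eK]; decide +kernel)
theorem p02 : part okc 120 180 = true := by (delta okc neJ TupRow.rowNe eqJ TupRow.eqM Lib.PackMat.checkEq; rewrite [Cfsg.Agent.PFeaf8e50f.rK, Cfsg.Agent.PFeaf8e50f.eK]; decide +kernel)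
theorem p03 : part okc 180 240 = true := by (delta okc neJ TupRow.rowNe eqJ TupRow.eqM Lib.PackMat.checkEq; rewrite [Cfsg.Agent.PFeaf8e50f.rK, Cfsg.Agent.PFeaf8e50f.eK]; decide +kernel)
theorem p04 : part okc 240 300 = true := by (delta okc neJ TupRow.rowNe eqJ TupRow.eqM Lib.PackMat.checkEq; rewrite [Cfsg.Agent.PFeaf8e50f.rK, Cfsg.Agent.PFeaf8e50f.eK]; decide +kernel)
theorem p05 : part okc 300 342 = true := by (delta okc neJ TupRow.rowNe eqJ TupRow.eqM Lib.PackMat.checkEq; rewrite [Cfsg.Agent.PFeaf8e50f.rK, Cfsg.Agent.PFeaf8e50f.eK]; decide +kernel)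

theorem p10 : part (fun x => okc (x ++ sw)) 0 60 = true := by (delta okc neJ TupRow.rowNe eqJ TupRow.eqM Lib.PackMat.checkEq; rewrite [Cfsg.Agent.PFeaf8e50f.rK, Cfsg.Agent.PFeaf8e50f.eK]; decide +kernel)
theorem p11 : part (fun x => okc (x ++ sw)) 60 120 = true := by (delta okc neJ TupRow.rowNe eqJ TupRow.eqM Lib.PackMat.checkEq; rewrite [Cfsg.Agent.PFeaf8e50f.rK, Cfsg.Agent.PFeaf8e50f.eK]; decide +kernel)
theorem p12 : part (fun x => okc (x ++ sw)) 120 180 = true := by (delta okc neJ TupRow.rowNe eqJ TupRow.eqM Lib.PackMat.checkEq; rewrite [Cfsg.Agent.PFeaf8e50f.rK, Cfsg.Agent.PFeaf8e50f.eK]; decide +kernel)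
theorem p13 : part (fun x => okc (x ++ sw)) 180 240 = true := by (delta okc neJ TupRow.rowNe eqJ TupRow.eqM Lib.PackMat.checkEq; rewrite [Cfsg.Agent.PFeaf8e50f.rK, Cfsg.Agent.PFeaf8e50f.eK]; decide +kernel)
theorem p14 : part (fun x => okc (x ++ sw)) 240 300 = true := by (delta okc neJ TupRow.rowNe eqJ TupRow.eqM Lib.PackMat.checkEq; rewrite [Cfsg.Agent.PFeaf8e50f.rK, Cfsg.Agent.PFeaf8e50f.eK]; decide +kernel)
theorem p15 : part (fun x => okc (x ++ sw)) 300 342 = true := by (delta okc neJ TupRow.rowNe eqJ TupRow.eqM Lib.PackMat.checkEq; rewrite [Cfsg.Agent.PFeaf8e50f.rK, Cfsg.Agent.PFeaf8e50f.eK]; decide +kernel)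

theorem chk0 : TupCover.allLive TupTData.C (fun _ x => okc x) = true := allLive_of p00 p01 p02 p03 p04 p05

theorem chk1 : TupCover.allLive TupTData.C (fun _ x => okc (x ++ sw)) = true :=
  allLive_of (f := fun x => okc (x ++ sw)) p10 p11 p12 p13 p14 p15

end Cfsg.Agent.CpAut.SporThree.ONInv
end

-- part: CpAut/SporThree/ONInv
section
/-!
# O'Nan: the 2-elements of `J = C(v)` modulo `⟨v⟩` (helper10)

`conj_E`: an element `y` of `J ∩ S` with `y² ∈ ⟨v⟩` is conjugate in `C(f)` into `E⟨v⟩`;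
`no_three`: an element `y ∉ ⟨v⟩` of `J` with `y² ∈ ⟨v⟩` commutes with no element of order 3 of `J`.
-/

set_option autoImplicit false
set_option maxRecDepth 100000

namespace Cfsg.Agent.CpAut.SporThree.ONInv

open Subgroup
open Cfsg.Spor (ON)
open Cfsg.Spor.ON (Gen)
open Cfsg.Agent.SporadicB.ON45Word (on)
open Cfsg.Agent.KFacts.MulSpor.ON (w w_append w_one w_cons w_iw iw eqw cj)
open Cfsg.Agent.KFacts.ON.Cent (hON finite_ON cen card_K0)
open Cfsg.Agent.KFacts.ON.Words Cfsg.Agent.KFacts.ON.Struct Cfsg.Agent.KFacts.ON.Qs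
open Cfsg.Agent.ONType
open Cfsg.Agent.ONType.TupK (K0)
open Cfsg.Agent.ONType.TupRow (gJ eqJ neJ eqJ_spec neJ_spec)
open Cfsg.Agent.ONType.TupT0 (T0 exists_T0)
open Cfsg.Agent.SporadicRecognition.CosetCert (ev ev_nil ev_cons ev_append)

theorem cl_mem {u : List ℕ} (hu : u ∈ cl) : ev gJ u ∈ K0 := by
  have h : ∀ l : List ℕ, (∀ i ∈ l, i = 0 ∨ i = 1 ∨ i = 2 ∨ i = 5 ∨ i = 6) → ev gJ l ∈ K0 := by
    intro l
    induction l with
    | nil => intro _; rw [ev_nil]; exact one_mem _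
    | cons i l ih =>
      intro hl
      rw [ev_cons]
      refine mul_mem ?_ (ih fun j hj => hl j (List.mem_cons_of_mem _ hj))
      rcases hl i List.mem_cons_self with rfl | rfl | rfl | rfl | rfl
      · exact c_mem
      · exact d_mem
      · exact g_mem
      · exact a_mem
      · exact b_mem
  apply h
  have h1 : ∀ u ∈ cl, ∀ i ∈ u, i = 0 ∨ i = 1 ∨ i = 2 ∨ i = 5 ∨ i = 6 := by decide
  exact h1 u hu

theorem okc_spec {x : List ℕ} (h : okc x = true) (hJ : ev gJ x ∈ J) (h2 : ev gJ x * ev gJ x ∈ zpowers v) :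
    ∃ g ∈ K0, ∃ e ∈ E, g * ev gJ x * g⁻¹ = e ∨ g * ev gJ x * g⁻¹ = e * v := by
  rcases Bool.or_eq_true_iff.1 h with h3 | h3
  · exfalso
    rcases Bool.or_eq_true_iff.1 h3 with h4 | h4
    · have h5 := neJ_spec h4
      rw [ev_append, ev_append, ev_vw] at h5
      exact h5 (mem_J.1 hJ)
    · have h5 := fun l hl => neJ_spec (List.all_eq_true.1 h4 l hl)
      simp only [ev_append] at h5
      rcases zv_cases h2 with h6 | h6 | h6 | h6
      · have := h5 [] (by simp [vl])
        rw [ev_nil] at this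
        exact this h6
      · have := h5 vw (by simp [vl])
        rw [ev_vw] at this
        exact this h6
      · have := h5 [7] (by simp [vl])
        rw [ev_cons, ev_nil, mul_one] at this
        exact this h6
      · have := h5 (7 :: vw) (by simp [vl])
        rw [ev_cons, ev_vw] at this
        exact this h6
  · obtain ⟨u, hu, h4⟩ := List.any_eq_true.1 h3
    obtain ⟨e, he, h5⟩ := List.any_eq_true.1 h4
    refine ⟨ev gJ u, cl_mem hu, ev gJ e, el8_mem he, ?_⟩
    rcases Bool.or_eq_true_iff.1 h5 with h6 | h6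
    · left
      have h7 := eqJ_spec hs h6
      rw [ev_append, ev_append] at h7
      rw [h7, mul_inv_cancel_right]
    · right
      have h7 := eqJ_spec hs h6
      rw [ev_append, ev_append, ev_append, ev_vw] at h7
      rw [h7, ← mul_assoc, mul_inv_cancel_right]

/-- an element `y` of `J ∩ S` with `y² ∈ ⟨v⟩` is conjugate in `C(f)` into `E⟨v⟩` -/
theorem conj_E {y : ON} (hy : y ∈ TupS.S hs) (hJ : y ∈ J) (h2 : y * y ∈ zpowers v) :
    ∃ g ∈ K0, ∃ e ∈ E, g * y * g⁻¹ = e ∨ g * y * g⁻¹ = e * v := by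
  rcases hy with hx | hx
  · obtain ⟨l, -, h1, h3⟩ := exists_T0 hs chk0 hx
    rw [h3] at hJ h2 ⊢
    exact okc_spec h1 hJ h2
  · rw [s_eq] at hx
    obtain ⟨l, -, h1, h3⟩ := exists_T0 hs chk1 hx
    have hss : s * s = 1 := by rw [← s_eq]; exact TupS.ss hs
    have h4 : y = ev gJ (TupCover.nword TupTData.C l ++ sw) := by
      rw [ev_append, ev_sw, ← h3, mul_assoc, hss, mul_one]
    rw [h4] at hJ h2 ⊢
    exact okc_spec h1 hJ h2

theorem v_zp {z : ON} (hz : z ∈ zpowers v) : ∀ g ∈ K0, g * z * g⁻¹ ∈ zpowers v := by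
  intro g hg
  obtain ⟨k, rfl⟩ := mem_zpowers_iff.1 hz
  rw [← conj_zpow]
  rcases conj_v hg with h | h
  · rw [h]; exact zpow_mem (mem_zpowers v) k
  · rw [h]; exact zpow_mem (inv_mem (mem_zpowers v)) k

/-- elements of `J` commuting with an element of `E` outside `⟨v⟩` are 2-elements -/
theorem pow_of_comm {e x : ON} (he : e ∈ E) (h1 : e ≠ 1) (hf : e ≠ on .f) (hx : x ∈ J) (hc : x * e = e * x) :
    x ^ 256 = 1 := by
  rcases E_conj he with h | h | ⟨g, hg, h⟩
  · exact absurd h h1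
  · exact absurd h hf
  · have hy : g⁻¹ * x * g ∈ J := J.mul_mem (J.mul_mem (J.inv_mem hg) hx) hg
    have hya : (g⁻¹ * x * g) * on .a = on .a * (g⁻¹ * x * g) := by
      have h2 : on .a = g⁻¹ * e * g := by rw [← h]; group
      rw [h2]
      calc g⁻¹ * x * g * (g⁻¹ * e * g) = g⁻¹ * (x * e) * g := by group
        _ = g⁻¹ * (e * x) * g := by rw [hc]
        _ = _ := by group
    have h6 := TupK.mem_T0 hs (J_le hy) hya
    have h8 : Nat.card T0 = 256 := TupS.card_T0 hs card_K0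
    have h9 := pow_card_eq_one' (x := (⟨_, h6⟩ : T0))
    rw [h8] at h9
    have h10 : (g⁻¹ * x * g) ^ 256 = 1 := congrArg Subtype.val h9
    have h11 : x = g * (g⁻¹ * x * g) * g⁻¹ := by group
    rw [h11, conj_pow, h10, mul_one, mul_inv_cancel]

/-- an element `y ∉ ⟨v⟩` of `J` with `y² ∈ ⟨v⟩` commutes with no element of order 3 of `J` -/
theorem no_three {x y : ON} (hx : x ∈ J) (hx3 : x ^ 3 = 1) (hy : y ∈ J) (hyv : y ∉ zpowers v)
    (hyy : y * y ∈ zpowers v) (hc : x * y = y * x) : x = 1 := by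
  have : Fact (Nat.Prime 2) := ⟨Nat.prime_two⟩
  have hfin : Finite ON := finite_ON
  -- `y` is conjugate in `J` to an element of `SJ`
  have hy8 : y ^ 8 = 1 := by
    have h1 : (y * y) ^ 4 = 1 := by
      obtain ⟨k, hk⟩ := mem_zpowers_iff.1 hyy
      rw [← hk, ← zpow_natCast, ← zpow_mul, mul_comm, zpow_mul, zpow_natCast, v4, one_zpow]
    calc y ^ 8 = (y * y) ^ 4 := by rw [← pow_two, ← pow_mul]
      _ = 1 := h1
  have hpg : IsPGroup 2 (zpowers (⟨y, hy⟩ : J)) := by
    have h1 : Nat.card (zpowers (⟨y, hy⟩ : J)) ∣ 2 ^ 3 := by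
      rw [Nat.card_zpowers]
      apply orderOf_dvd_of_pow_eq_one
      exact Subtype.ext hy8
    obtain ⟨k, -, hk⟩ := (Nat.dvd_prime_pow Nat.prime_two).1 h1
    exact IsPGroup.of_card hk
  obtain ⟨P, hP⟩ := hpg.exists_le_sylow
  obtain ⟨j, hj⟩ := MulAction.exists_smul_eq J P sylJ
  have hy1 : j * ⟨y, hy⟩ * j⁻¹ ∈ (sylJ : Subgroup J) := by
    rw [← hj]
    exact ⟨_, hP (mem_zpowers _), rfl⟩
  have hy2 : (j : ON) * y * (j : ON)⁻¹ ∈ SJ := mem_sylJ.1 hy1
  have hjy : ((j : ON) * y * (j : ON)⁻¹) * ((j : ON) * y * (j : ON)⁻¹) ∈ zpowers v := by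
    have h1 : ((j : ON) * y * (j : ON)⁻¹) * ((j : ON) * y * (j : ON)⁻¹) = (j : ON) * (y * y) * (j : ON)⁻¹ := by
      group
    rw [h1]
    exact v_zp hyy _ (J_le j.2)
  obtain ⟨g, hg, e, he, h1⟩ := conj_E hy2.1 hy2.2 hjy
  set x1 : ON := g * ((j : ON) * x * (j : ON)⁻¹) * g⁻¹ with hx1
  have hx1J : x1 ∈ J := J_normal hg (J.mul_mem (J.mul_mem j.2 hx) (J.inv_mem j.2))
  have hx1y : x1 * (g * ((j : ON) * y * (j : ON)⁻¹) * g⁻¹) = (g * ((j : ON) * y * (j : ON)⁻¹) * g⁻¹) * x1 := by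
    rw [hx1]
    calc g * ((j : ON) * x * (j : ON)⁻¹) * g⁻¹ * (g * ((j : ON) * y * (j : ON)⁻¹) * g⁻¹)
        = g * ((j : ON) * (x * y) * (j : ON)⁻¹) * g⁻¹ := by group
      _ = g * ((j : ON) * (y * x) * (j : ON)⁻¹) * g⁻¹ := by rw [hc]
      _ = _ := by group
  have hx1e : x1 * e = e * x1 := by
    rcases h1 with h1 | h1
    · rw [h1] at hx1y; exact hx1y
    · rw [h1] at hx1y
      have h2 : x1 * v = v * x1 := mem_J.1 hx1J
      have h3 : (x1 * e) * v = (e * x1) * v := by
        calc (x1 * e) * v = x1 * (e * v) := by group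
          _ = e * v * x1 := hx1y
          _ = e * (v * x1) := by group
          _ = (e * x1) * v := by rw [← h2]; group
      exact mul_right_cancel h3
  have hnot : g * ((j : ON) * y * (j : ON)⁻¹) * g⁻¹ ∉ zpowers v := by
    intro h
    apply hyv
    have h2 := v_zp h g⁻¹ (K0.inv_mem hg)
    have h3 : g⁻¹ * (g * ((j : ON) * y * (j : ON)⁻¹) * g⁻¹) * g⁻¹⁻¹ = (j : ON) * y * (j : ON)⁻¹ := by group
    rw [h3] at h2
    have h4 := v_zp h2 (j : ON)⁻¹ (K0.inv_mem (J_le j.2))
    have h5 : (j : ON)⁻¹ * ((j : ON) * y * (j : ON)⁻¹) * (j : ON)⁻¹⁻¹ = y := by group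
    rwa [h5] at h4
  have he1 : e ∉ zpowers v := by
    intro h
    apply hnot
    rcases h1 with h1 | h1
    · rw [h1]; exact h
    · rw [h1]; exact mul_mem h (mem_zpowers v)
  have h256 := pow_of_comm he (fun h => he1 (h ▸ one_mem _)) (fun h => he1 (by rw [h, ← vv]; exact mul_mem (mem_zpowers v) (mem_zpowers v))) hx1J hx1e
  have hx13 : x1 ^ 3 = 1 := by
    rw [hx1, conj_pow, conj_pow, hx3, mul_one, mul_inv_cancel, mul_one, mul_inv_cancel]
  have hx11 : x1 = 1 := by
    have h2 : x1 ^ 256 = x1 := by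
      calc x1 ^ 256 = (x1 ^ 3) ^ 85 * x1 := by rw [← pow_mul, ← pow_succ]
        _ = x1 := by rw [hx13, one_pow, one_mul]
    rw [← h2, h256]
  have h2 : x = (j : ON)⁻¹ * (g⁻¹ * x1 * g) * j := by rw [hx1]; group
  rw [h2, hx11]; group

/-- elements of order 3 of `C(f)` are in `J` -/
theorem mem_J_of_three {x : ON} (hx : x ∈ K0) (h3 : x ^ 3 = 1) : x ∈ J := by
  rcases conj_v hx with h | h
  · rw [mem_J]
    exact mul_inv_eq_iff_eq_mul.1 h
  · exfalso
    have h1 : x * v⁻¹ * x⁻¹ = v := by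
      calc x * v⁻¹ * x⁻¹ = (x * v * x⁻¹)⁻¹ := by group
        _ = v := by rw [h, inv_inv]
    have h2 : x ^ 3 * v * (x ^ 3)⁻¹ = v⁻¹ := by
      calc x ^ 3 * v * (x ^ 3)⁻¹ = x * (x * (x * v * x⁻¹) * x⁻¹) * x⁻¹ := by
            rw [pow_succ, pow_succ, pow_one]; group
        _ = v⁻¹ := by rw [h, h1, h]
    rw [h3, one_mul, inv_one, mul_one] at h2
    exact v_ne_inv h2

/-- the 2-subgroups of `C(f) ∩ C(x)`, `x` of order 3, have order at most 8 -/
theorem card_le {x : ON} (hx : x ∈ K0) (h3 : x ^ 3 = 1) (h1 : x ≠ 1) {T : Subgroup ON} (hT : IsPGroup 2 T)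
    (hTK : T ≤ K0) (hTx : ∀ t ∈ T, t * x = x * t) : Nat.card T ≤ 8 := by
  have hfin : Finite ON := finite_ON
  have hxJ := mem_J_of_three hx h3
  have hTJ : T ⊓ J ≤ zpowers v := by
    rintro t ⟨htT, htJ⟩
    by_contra hn
    obtain ⟨n, hn1⟩ := hT ⟨t, htT⟩
    have hn2 : t ^ 2 ^ n = 1 := congrArg Subtype.val hn1
    have hex : ∃ m, t ^ 2 ^ m ∈ zpowers v := ⟨n, by rw [hn2]; exact one_mem _⟩
    classical
    obtain ⟨m, hm, hmin⟩ : ∃ m, t ^ 2 ^ m ∈ zpowers v ∧ ∀ k < m, t ^ 2 ^ k ∉ zpowers v :=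
      ⟨Nat.find hex, Nat.find_spec hex, fun k hk => Nat.find_min hex hk⟩
    have hm0 : m ≠ 0 := by
      rintro rfl
      apply hn
      simpa using hm
    obtain ⟨k, rfl⟩ := Nat.exists_eq_succ_of_ne_zero hm0
    apply h1
    refine no_three (y := t ^ 2 ^ k) hxJ h3 (pow_mem htJ _) (hmin k (Nat.lt_succ_self k)) ?_ ?_
    · rw [← pow_add]
      have : 2 ^ k + 2 ^ k = 2 ^ (k + 1) := by rw [pow_succ]; ring
      rw [this]
      exact hm
    · have h2 : Commute x t := (hTx t htT).symm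
      exact (h2.pow_right _).eq
  have hc1 : Nat.card (T ⊓ J : Subgroup ON) ≤ 4 := by
    refine (Nat.card_le_card_of_injective _ (inclusion_injective hTJ)).trans ?_
    rw [Nat.card_zpowers]
    exact orderOf_le_of_pow_eq_one (by norm_num) v4
  have hc2 : J.relIndex T ≤ 2 := by
    have h2 : J.relIndex K0 = 2 := index_J
    rw [← h2]
    exact relIndex_le_of_le_right hTK (by rw [h2]; norm_num)
  have h4 : Nat.card (J.subgroupOf T) * (J.subgroupOf T).index = Nat.card T := card_mul_index _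
  have h5 : Nat.card (J.subgroupOf T) = Nat.card (T ⊓ J : Subgroup ON) := by
    rw [inf_comm, ← subgroupOf_map_subtype, card_map_of_injective T.subtype_injective]
  rw [h5] at h4
  have h6 : (J.subgroupOf T).index = J.relIndex T := rfl
  rw [h6] at h4
  calc Nat.card T = Nat.card (T ⊓ J : Subgroup ON) * J.relIndex T := h4.symm
    _ ≤ 4 * 2 := Nat.mul_le_mul hc1 hc2
    _ = 8 := rfl

end Cfsg.Agent.CpAut.SporThree.ONInv
end
end

-- part: CpAut/SporThree/ON
section
set_option linter.all false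
open scoped Cfsg.Agent.FastGrp

-- merged: Cfsg.Agent.CpAut.SporThree.AltSeven
section

/-!
# The involutions of the alternating group of degree 7 (helper10)
-/

set_option autoImplicit false

namespace Cfsg.Agent.CpAut.SporThree.AltSeven

open Equiv Equiv.Perm

theorem cycleType_iff (g : alternatingGroup (Fin 7)) : orderOf g = 2 ↔ (g : Perm (Fin 7)).cycleType = {2, 2} := by
  constructor
  · intro h
    have h1 : orderOf (g : Perm (Fin 7)) = 2 := by rw [Subgroup.orderOf_coe, h]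
    obtain ⟨n, hn⟩ := cycleType_prime_order (σ := (g : Perm (Fin 7))) (by rw [h1]; exact Nat.prime_two)
    rw [h1] at hn
    have h2 : (g : Perm (Fin 7)).cycleType.sum ≤ Fintype.card (Fin 7) := by
      rw [sum_cycleType]
      exact Finset.card_le_univ _
    rw [hn, Multiset.sum_replicate, Fintype.card_fin, smul_eq_mul] at h2
    have h3 : sign (g : Perm (Fin 7)) = 1 := mem_alternatingGroup.1 g.2
    rw [sign_of_cycleType, hn, Multiset.sum_replicate, Multiset.card_replicate, smul_eq_mul] at h3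
    have hn2 : n ≤ 2 := by omega
    rw [hn]
    interval_cases n
    · exact absurd h3 (by decide)
    · rfl
    · exact absurd h3 (by decide)
  · intro h
    rw [← Subgroup.orderOf_coe, ← lcm_cycleType, h]
    decide

theorem card_inv : Nat.card {g : alternatingGroup (Fin 7) // orderOf g = 2} = 105 := by
  classical
  have h1 := AlternatingGroup.card_of_cycleType (Fin 7) {2, 2}
  have h2 : Nat.card {g : alternatingGroup (Fin 7) // orderOf g = 2} =
      Nat.card {g : alternatingGroup (Fin 7) // (g : Perm (Fin 7)).cycleType = {2, 2}} :=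
    Nat.card_congr (Equiv.subtypeEquivRight fun g => cycleType_iff g)
  rw [h2, Nat.card_eq_fintype_card, Fintype.card_subtype, h1]
  rw [if_pos (by decide)]
  decide

theorem card_inv_of_equiv {S : Type*} [Group S] (e : S ≃* alternatingGroup (Fin 7)) :
    Nat.card {v : S // orderOf v = 2} = 105 := by
  rw [← card_inv]
  exact Nat.card_congr (e.toEquiv.subtypeEquiv fun v => by
    show orderOf v = 2 ↔ orderOf (e v) = 2
    rw [MulEquiv.orderOf_eq])

end Cfsg.Agent.CpAut.SporThree.AltSeven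

end

-- merged: Cfsg.Agent.CpAutG.QuotRank
section

/-!
# Components with `m_p(K / Z(K)) ≤ 1`, and components by the name of `K / Z(K)` (helper24)

* `center_eq_bot_of_quot_rank` : `K` perfect, `Z(K)` a `p`-group, `m_p(K / Z(K)) ≤ 1`, `p` odd : `Z(K) = 1`;
* `inCT_of_quot_rank_one` : such a component is a `C_p`- or `T_p`-group.
-/

set_option autoImplicit false

namespace Cfsg.Agent.CpAutG

open Subgroup Cfsg Cfsg.Agent.CpAut

universe u

/-- `K` perfect, `Z(K)` a `p`-group, `m_p(K / Z(K)) ≤ 1`, `p` odd : `Z(K) = 1` -/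
theorem center_eq_bot_of_quot_rank {K : Type*} [Group K] [Finite K] {p : ℕ} (hp : p.Prime) (hp2 : p ≠ 2)
    (hK : Group.IsPerfect K) (hz : IsPGroup p ↥(center K)) (hr : PRankLE p 1 (K ⧸ center K)) :
    center K = ⊥ := by
  have : Fact p.Prime := ⟨hp⟩
  obtain ⟨P, hP⟩ := hz.exists_le_sylow
  let f : ↥(P : Subgroup K) →* K ⧸ center K := (QuotientGroup.mk' (center K)).comp (P : Subgroup K).subtype
  have hcyc : IsCyclic ↥f.range := by
    refine cyclic_of_rank_one hp2 ?_ (prankLE_subgroup _ hr)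
    exact P.isPGroup'.of_surjective f.rangeRestrict f.rangeRestrict_surjective
  have hker : f.rangeRestrict.ker ≤ center ↥(P : Subgroup K) := by
    intro a ha
    rw [MonoidHom.ker_rangeRestrict] at ha
    have h1 : (a : K) ∈ center K := (QuotientGroup.eq_one_iff _).1 ((MonoidHom.mem_ker).1 ha)
    rw [mem_center_iff]
    intro b
    exact Subtype.ext (mem_center_iff.1 h1 b)
  have hcomm : ∀ a b : ↥(P : Subgroup K), a * b = b * a :=
    fun a b => commutative_of_cyclic_center_quotient f.rangeRestrict hker a b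
  rw [eq_bot_iff]
  intro z hzz
  rw [mem_bot]
  refine central_eq_one hK P ?_ hzz (hP hzz)
  intro a ha b hb
  exact congrArg Subtype.val (hcomm ⟨a, ha⟩ ⟨b, hb⟩)

/-- a component with `m_p(K / Z(K)) ≤ 1` is a `C_p`- or `T_p`-group, `p` odd -/
theorem inCT_of_quot_rank_one {H : Type u} [Group H] [Finite H] {p : ℕ} (hS : AllKnown.{u}) (hp : p.Prime)
    (hp2 : p ≠ 2) (K : Subgroup (H ⧸ pPrimeCore p H)) (hK : IsComponent K)
    (hr : PRankLE p 1 (↥K ⧸ center ↥K)) : InCT p ↥K := by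
  have hc := center_eq_bot_of_quot_rank hp hp2 hK.2.1 (isPGroup_center_comp hp K hK) hr
  refine inCT_of_rank_one hS hp hp2 K hK ?_
  refine OddOrderLocal.RankQuot.pRankLE_of_injective' (QuotientGroup.mk' (center ↥K)) ?_ hr
  rw [← MonoidHom.ker_eq_bot_iff, QuotientGroup.ker_mk']
  exact hc

/-- cyclic Sylow `p`-subgroups give `p`-rank at most one -/
theorem rank_one_of_cyclic {X : Type*} [Group X] [Finite X] {p : ℕ} (hp : p.Prime) (P : Sylow p X)
    (hP : IsCyclic ↥(P : Subgroup X)) : PRankLE p 1 X := by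
  have : Fact p.Prime := ⟨hp⟩
  intro A hA1 hA2
  have hAp : IsPGroup p ↥A := fun a => ⟨1, by
    rw [pow_one]
    exact Subtype.ext (hA2 a a.2)⟩
  obtain ⟨Q, hQ⟩ := hAp.exists_le_sylow
  have hQc : IsCyclic ↥(Q : Subgroup X) :=
    isCyclic_of_surjective (Sylow.equiv P Q).toMonoidHom (Sylow.equiv P Q).surjective
  have hAc : IsCyclic ↥A := by
    have h1 : IsCyclic ↥(A.subgroupOf (Q : Subgroup X)) := inferInstance
    exact isCyclic_of_surjective (subgroupOfEquivOfLe hQ).toMonoidHom (subgroupOfEquivOfLe hQ).surjective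
  obtain ⟨g, hg⟩ := hAc.exists_generator
  have h1 : Nat.card ↥A = orderOf g := by
    rw [← Nat.card_zpowers]
    exact Nat.card_congr (Equiv.ofBijective (fun a => ⟨a, hg a⟩)
      ⟨fun a b h => congrArg Subtype.val h, fun b => ⟨b.1, rfl⟩⟩)
  rw [h1, pow_one]
  exact Nat.le_of_dvd hp.pos (orderOf_dvd_of_pow_eq_one (Subtype.ext (hA2 g g.2)))

end Cfsg.Agent.CpAutG

end

-- merged: Cfsg.Agent.CpAutG.Rows
section

/-!
# The row `G₂(8)`, `p = 3`, of S1814 (helper24)

The simple sections of `G₂(8)` are `L₂(7)`, `L₂(8)`, `L₂(512)`, `L₃(8)`, `U₃(3)`, `U₃(8)`, `G₂(8)` by their orders.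
-/

set_option autoImplicit false

namespace Cfsg.Agent.CpAutG

open Subgroup Cfsg Cfsg.Agent.CpAut
open Cfsg.Agent.OrdDiv (OrderTable Real Grp cands ordN)

universe u

/-! ### ranks -/

theorem rank_of_not_sq_dvd {X : Type*} [Group X] [Finite X] {p : ℕ} (hp : p.Prime) (h : ¬ p ^ 2 ∣ Nat.card X) :
    PRankLE p 1 X := by
  have : Fact p.Prime := ⟨hp⟩
  intro A hA1 hA2
  have hAp : IsPGroup p ↥A := fun a => ⟨1, by
    rw [pow_one]
    exact Subtype.ext (hA2 a a.2)⟩
  obtain ⟨k, hk⟩ := hAp.exists_card_eq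
  rw [hk]
  refine Nat.pow_le_pow_right hp.pos ?_
  by_contra hlt
  exact h ((pow_dvd_pow p (by omega)).trans (hk ▸ Subgroup.card_subgroup_dvd_card A))

theorem rank_psl_two {F : Type} [Field F] [Fintype F] (h3 : (3 : F) ≠ 0) :
    PRankLE 3 1 (Matrix.ProjectiveSpecialLinearGroup (Fin 2) F) := by
  obtain ⟨p, hp⟩ := CharP.exists F
  have hpp : p.Prime := (CharP.char_is_prime_or_zero F p).resolve_right (CharP.char_ne_zero_of_finite F p)
  have : Fact p.Prime := ⟨hpp⟩
  have : Fact (Nat.Prime 3) := ⟨Nat.prime_three⟩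
  have hne : 3 ≠ p := by
    rintro rfl
    apply h3
    exact_mod_cast CharP.cast_eq_zero F 3
  have h1 : PRankLE 3 1 (Matrix.SpecialLinearGroup (Fin 2) F) :=
    rank_one_of_cyclic Nat.prime_three default (S0262.result p 3 (by norm_num) hne default)
  refine OddOrderLocal.RankQuot.pRankLE_quotient_of_not_dvd _ ?_ h1
  have h2 : Nat.card (center (Matrix.SpecialLinearGroup (Fin 2) F)) = Nat.gcd 2 (Fintype.card F - 1) := by
    rw [Nat.card_congr (Matrix.SpecialLinearGroup.center_equiv_rootsOfUnity'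
      (n := Fin 2) (R := F) ⟨0, by omega⟩).toEquiv, rootsOfUnity_eq_ker,
      IsCyclic.card_powMonoidHom_ker, Nat.card_units, Nat.card_eq_fintype_card, Fintype.card_fin,
      Nat.gcd_comm]
  rw [h2]
  intro h
  have h4 : 3 ∣ 2 := h.trans (Nat.gcd_dvd_left _ _)
  exact absurd (Nat.le_of_dvd (by norm_num) h4) (by norm_num)

theorem card_sylow {X : Type*} [Group X] [Finite X] {p : ℕ} [hp : Fact p.Prime] (P : Sylow p X) {k m : ℕ}
    (hc : Nat.card X = p ^ k * m) (hm : ¬ p ∣ m) : Nat.card ↥(P : Subgroup X) = p ^ k := by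
  have hm0 : m ≠ 0 := by
    rintro rfl
    exact hm (dvd_zero p)
  rw [P.card_eq_multiplicity, hc, Nat.factorization_mul (pow_ne_zero _ hp.out.ne_zero) hm0, Finsupp.add_apply,
    Nat.factorization_pow, Finsupp.smul_apply, hp.out.factorization_self, Nat.factorization_eq_zero_of_not_dvd hm,
    smul_eq_mul, mul_one, add_zero]

/-- `m_3(L₃(8)) ≤ 1` -/
theorem rank_psl_three {F : Type} [Field F] [Fintype F] (hF : Fintype.card F = 8) :
    PRankLE 3 1 (Matrix.ProjectiveSpecialLinearGroup (Fin 3) F) := by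
  obtain ⟨p, hp⟩ := CharP.exists F
  have hpp : p.Prime := (CharP.char_is_prime_or_zero F p).resolve_right (CharP.char_ne_zero_of_finite F p)
  have : Fact p.Prime := ⟨hpp⟩
  have : Fact (Nat.Prime 3) := ⟨Nat.prime_three⟩
  have hne : 3 ≠ p := by
    rintro rfl
    have h1 : 3 ∣ Fintype.card F := by
      obtain ⟨n, -, hn⟩ := FiniteField.card F 3
      rw [hn]
      exact dvd_pow_self 3 n.pos.ne'
    rw [hF] at h1
    omega
  have hc2 : Nat.card (Matrix.SpecialLinearGroup (Fin 2) F) = 504 := by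
    have h := S0242.result (F := F) hF 2 (by norm_num)
    rw [Fin.prod_univ_two] at h
    norm_num at h
    omega
  have hc3 : Nat.card (Matrix.ProjectiveSpecialLinearGroup (Fin 3) F) = 16482816 := by
    have h := S0243.result (F := F) hF 3 (by norm_num)
    rw [Fin.prod_univ_three] at h
    norm_num only [_root_.one_mul, _root_.Fin.coe_ofNat_eq_mod, _root_.pow_zero, _root_.Nat.add_one_sub_one, _root_.pow_one] at h
    omega
  let R : Sylow 3 (Matrix.SpecialLinearGroup (Fin 2) F) := default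
  have hR : IsCyclic ↥(R : Subgroup (Matrix.SpecialLinearGroup (Fin 2) F)) :=
    S0262.result p 3 (by norm_num) hne R
  have hRc : Nat.card ↥(R : Subgroup (Matrix.SpecialLinearGroup (Fin 2) F)) = 9 :=
    card_sylow R (k := 2) (m := 56) hc2 (by norm_num)
  obtain ⟨g, hg⟩ := hR.exists_generator
  have hgo : orderOf g = 9 := by
    rw [orderOf_eq_card_of_forall_mem_zpowers hg, hRc]
  let y : Matrix.ProjectiveSpecialLinearGroup (Fin 3) F := GTwoOdd.CentPSL.f 1 (g : Matrix.SpecialLinearGroup (Fin 2) F)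
  have hy : orderOf y = 9 := by
    rw [orderOf_injective (GTwoOdd.CentPSL.f 1) (GTwoOdd.CentPSL.f_injective 1), Subgroup.orderOf_coe, hgo]
  have hyp : IsPGroup 3 ↥(zpowers y) := IsPGroup.of_card (n := 2) (by rw [Nat.card_zpowers, hy]; norm_num)
  obtain ⟨Q, hQ⟩ := hyp.exists_le_sylow
  have hQc : Nat.card ↥(Q : Subgroup (Matrix.ProjectiveSpecialLinearGroup (Fin 3) F)) = 9 :=
    card_sylow Q (k := 2) (m := 1831424) hc3 (by norm_num)
  have hQe : zpowers y = (Q : Subgroup (Matrix.ProjectiveSpecialLinearGroup (Fin 3) F)) :=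
    eq_of_le_of_card_ge hQ (by rw [hQc, Nat.card_zpowers, hy])
  refine rank_one_of_cyclic Nat.prime_three Q ?_
  rw [← hQe]
  infer_instance

/-! ### the components -/

open scoped commutatorElement in
theorem not_comm_quot {K : Type*} [Group K] (h : IsQuasisimple K) :
    ¬ ∀ a b : K ⧸ center K, a * b = b * a := by
  intro hab
  apply SignalizersComponents.Components.quasisimple_center_ne_top h
  rw [eq_top_iff, ← Group.isPerfect_def.1 h.1]
  refine Subgroup.commutator_le.2 ?_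
  intro a _ b _
  refine (QuotientGroup.eq_one_iff _).1 ?_
  change QuotientGroup.mk' (center K) ⁅a, b⁆ = 1
  rw [map_commutatorElement, commutatorElement_eq_one_iff_mul_comm]
  exact hab _ _

theorem charP_three {F : Type*} [Field F] [Fintype F] {k : ℕ} (hF : Fintype.card F = 3 ^ k) : CharP F 3 := by
  obtain ⟨p, hp⟩ := CharP.exists F
  have hpp : p.Prime := (CharP.char_is_prime_or_zero F p).resolve_right (CharP.char_ne_zero_of_finite F p)
  have : Fact p.Prime := ⟨hpp⟩
  obtain ⟨n, -, hn⟩ := FiniteField.card F p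
  have h1 : p ∣ 3 ^ k := by
    rw [← hF, hn]
    exact dvd_pow_self p n.pos.ne'
  have h2 : p = 3 := (Nat.prime_dvd_prime_iff_eq hpp Nat.prime_three).1 (hpp.dvd_of_dvd_pow h1)
  rw [← h2]
  exact hp

/-- the row of the names -/
theorem inCT_of_names {H : Type} [Group H] [Finite H] (hS : AllKnown.{0}) (T : OrderTable.{0})
    (hH : Nat.card H ∣ 2 ^ 18 * 3 ^ 5 * 7 ^ 2 * 19 * 73) : CompsCT 3 H := by
  intro K hK
  have hs := hK.2.2
  have hZ := isPGroup_center_comp Nat.prime_three K hK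
  have hd : Nat.card (↥K ⧸ center ↥K) ∣ 2 ^ 18 * 3 ^ 5 * 7 ^ 2 * 19 * 73 :=
    ((Subgroup.card_quotient_dvd_card _).trans ((Subgroup.card_subgroup_dvd_card K).trans
      (Subgroup.card_quotient_dvd_card _))).trans hH
  have hR : PRankLE 3 1 (↥K ⧸ center ↥K) → InCT 3 ↥K := fun h =>
    inCT_of_quot_rank_one hS Nat.prime_three (by norm_num) K hK h
  -- the characteristic 3
  have hC : IsChevSimple 3 (↥K ⧸ center ↥K) → InCT 3 ↥K := by
    intro h
    refine Or.inl ⟨hK.2, hZ, Or.inl h, ?_⟩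
    rintro (⟨h2, -⟩ | ⟨-, -, (⟨⟨e⟩⟩ | h5)⟩)
    · exact absurd h2 (by norm_num)
    · have h6 := OrdDiv.alt_card (n := 6) (by norm_num) e
      have h7 : 5 ∣ 2 ^ 18 * 3 ^ 5 * 7 ^ 2 * 19 * 73 := by
        refine dvd_trans ?_ hd
        have h8 : Nat.card (↥K ⧸ center ↥K) = 360 := by
          have h9 : Nat.factorial 6 = 720 := rfl
          omega
        rw [h8]
        norm_num
      exact absurd h7 (by norm_num)
    · have h6 := T.spor (↥K ⧸ center ↥K) (.on, 460815505920) (by decide) h5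
      have h7 : 5 ∣ 2 ^ 18 * 3 ^ 5 * 7 ^ 2 * 19 * 73 := by
        refine dvd_trans ?_ hd
        rw [h6]
        norm_num
      exact absurd h7 (by norm_num)
  have hT : ((∃ (F : Type) (_ : Field F) (_ : Fintype F) (q : ℕ), Fintype.card F = q ^ 2 ∧ q % 3 = 2 ∧
          Nonempty (↥K ⧸ center ↥K ≃* PSU 3 F q)) ∨
        (∃ (F : Type) (_ : Field F) (_ : Fintype F), Fintype.card F = 8 ∧
          Nonempty (↥K ⧸ center ↥K ≃* ↥(Lie.chevG2.group F)))) → InCT 3 ↥K := by
    intro h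
    by_cases hc : InC 3 ↥K
    · exact Or.inl hc
    · refine Or.inr ⟨hK.2, hZ, hS _, hc, Or.inr (Or.inl ⟨rfl, ?_⟩)⟩
      rcases h with h | h
      · exact Or.inr (Or.inl h)
      · exact Or.inr (Or.inr (Or.inr (Or.inr (Or.inr (Or.inr (Or.inl h))))))
  obtain ⟨g, hg, hr⟩ := OrdDiv.exists_real T (hS (↥K ⧸ center ↥K)) (not_comm_quot hK.2)
    (l := [(2, 18), (3, 5), (7, 2), (19, 1), (73, 1)]) (by decide +kernel) hd
  rw [show cands [(2, 18), (3, 5), (7, 2), (19, 1), (73, 1)] (2 ^ 18 * 3 ^ 5 * 7 ^ 2 * 19 * 73) =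
    [.psl 3 2, .psl 2 8, .psl 3 8, .psl 2 512, .psl 2 7, .psu 3 8, .psu 3 3, .g2 8] from by decide +kernel] at hg
  simp only [List.mem_cons, List.not_mem_nil, or_false] at hg
  rcases hg with rfl | rfl | rfl | rfl | rfl | rfl | rfl | rfl
  · obtain ⟨F, _, _, hF, ⟨e⟩⟩ := hr
    refine hR (rank_of_not_sq_dvd Nat.prime_three ?_)
    have h := S0243.result (F := F) hF 3 (by norm_num)
    rw [Fin.prod_univ_three] at h
    norm_num only [_root_.one_mul, _root_.Fin.coe_ofNat_eq_mod, _root_.pow_zero, _root_.Nat.add_one_sub_one, _root_.pow_one] at h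
    rw [Nat.card_congr e.toEquiv, h]
    norm_num
  · exact hC (Or.inr (Or.inr ⟨rfl, hr⟩))
  · obtain ⟨F, _, _, hF, ⟨e⟩⟩ := hr
    exact hR (OddOrderLocal.RankQuot.pRankLE_of_injective' e.toMonoidHom e.injective (rank_psl_three hF))
  · obtain ⟨F, _, _, hF, ⟨e⟩⟩ := hr
    refine hR (OddOrderLocal.RankQuot.pRankLE_of_injective' e.toMonoidHom e.injective (rank_psl_two ?_))
    intro h3
    have : CharP F 3 := (CharP.charP_iff_prime_eq_zero Nat.prime_three).2 (by exact_mod_cast h3)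
    have : Fact (Nat.Prime 3) := ⟨Nat.prime_three⟩
    obtain ⟨n, -, hn⟩ := FiniteField.card F 3
    have h4 : 3 ∣ Fintype.card F := by rw [hn]; exact dvd_pow_self 3 n.pos.ne'
    rw [hF] at h4
    omega
  · obtain ⟨F, _, _, hF, ⟨e⟩⟩ := hr
    refine hR (OddOrderLocal.RankQuot.pRankLE_of_injective' e.toMonoidHom e.injective (rank_psl_two ?_))
    intro h3
    have : CharP F 3 := (CharP.charP_iff_prime_eq_zero Nat.prime_three).2 (by exact_mod_cast h3)
    have : Fact (Nat.Prime 3) := ⟨Nat.prime_three⟩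
    obtain ⟨n, -, hn⟩ := FiniteField.card F 3
    have h4 : 3 ∣ Fintype.card F := by rw [hn]; exact dvd_pow_self 3 n.pos.ne'
    rw [hF] at h4
    omega
  · obtain ⟨F, _, _, hF, e⟩ := hr
    exact hT (Or.inl ⟨F, inferInstance, inferInstance, 8, hF, rfl, e⟩)
  · obtain ⟨F, _, _, hF, e⟩ := hr
    have : Fact (Nat.Prime 3) := ⟨Nat.prime_three⟩
    have hch : CharP F 3 := charP_three hF
    exact hC (Or.inl (Or.inr (Or.inr (Or.inl ⟨F, inferInstance, inferInstance, hch, 3, 3, hF, le_rfl,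
      by norm_num, e⟩))))
  · exact hT (Or.inr hr)

/-- `TRows.g2` -/
theorem gTwo (hS : AllKnown.{0}) (T : OrderTable.{0}) (F : Type) [Field F] [Fintype F] (hF : Fintype.card F = 8) :
    AutCT 3 ↥(Lie.chevG2.group F) := by
  intro x _
  have h1 := T.g2 F
  rw [hF] at h1
  have : Finite ↥(Lie.chevG2.group F) := Nat.finite_of_card_ne_zero (by rw [h1]; norm_num)
  refine inCT_of_names hS T ?_
  refine (Subgroup.card_subgroup_dvd_card _).trans ?_
  rw [h1]
  norm_num

end Cfsg.Agent.CpAutG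

end

-- merged: Cfsg.Agent.CpAut.SporThree.ON
section

/-!
# S1814: the row `O'N`, `p = 3` (helper10)

`row FT hS T : AutC 3 Spor.ON`.
-/

set_option autoImplicit false

namespace Cfsg.Agent.CpAut.SporThree.ON

open Subgroup Cfsg
open Cfsg.Spor (ON)
open Cfsg.Agent.SporadicB.ON45Word (on)
open Cfsg.Agent.ONType.TupK (K0)
open Cfsg.Agent.KFacts.ON.Cent (hON finite_ON card_K0)
open Cfsg.Agent.KFacts.ON.OneClass (hs card_ON mem_K0 one_class)
open Cfsg.Agent.LThree (Comps)
open Cfsg.Agent.OrdDiv (OrderTable Real Grp cands ordN exists_real_filter)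

/-! ### The Sylow 3-subgroup -/

theorem exists_E : ∃ E : Subgroup ON, Nat.card E = 3 ^ 4 ∧ (∀ a ∈ E, ∀ b ∈ E, a * b = b * a) ∧ ∀ a ∈ E, a ^ 3 = 1 := by
  have D := R04.ONThree.data hs
  refine ⟨D.E, ?_, ?_, ?_⟩
  · rw [D.card_E R04.ONThree.ab_ne R04.ONThree.fe_ne R04.ONThree.a_ne R04.ONThree.f_ne (R04.ONThree.inv hs)]
    norm_num
  · rintro _ ⟨i, j, k, l, rfl⟩ _ ⟨i', j', k', l', rfl⟩
    rw [D.el_mul, D.el_mul, add_comm i, add_comm j, add_comm k, add_comm l]
  · rintro _ ⟨i, j, k, l, rfl⟩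
    rw [pow_succ, pow_succ, pow_one, D.el_mul, D.el_mul, D.el_mod,
      show i + i + i = 3 * i by ring, show j + j + j = 3 * j by ring, show k + k + k = 3 * k by ring,
      show l + l + l = 3 * l by ring, Nat.mul_mod_right, Nat.mul_mod_right, Nat.mul_mod_right, Nat.mul_mod_right]
    simp only [R04.ThreeAbs.el, _root_.pow_zero, _root_.mul_one]

/-! ### Centralisers -/

theorem f_conj {z : ON} (hz : orderOf z = 2) : ∃ g : ON, g * z * g⁻¹ = on .f := by
  have h1 : z * z = 1 := by rw [← pow_two, ← hz, pow_orderOf_eq_one]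
  have h2 : z ≠ 1 := by
    rintro rfl
    rw [orderOf_one] at hz
    omega
  exact isConj_iff.1 (one_class h1 h2)

/-- `¬ 16 ∣ |C(x)|` -/
theorem not_16 {x : ON} (hx : orderOf x = 3) : ¬ 16 ∣ Nat.card (centralizer ({x} : Set ON)) := by
  intro h
  have hfin : Finite ON := finite_ON
  obtain ⟨z, hz, hzx, T, hT, hTx, hTz⟩ := Cent.exists_inv (k := 4) (by norm_num) (by simpa only [_root_.Nat.reducePow] using h)
  obtain ⟨g, hg⟩ := f_conj hz
  have hx3 : x ^ 3 = 1 := by rw [← hx, pow_orderOf_eq_one]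
  have hx1 : x ≠ 1 := by
    rintro rfl
    rw [orderOf_one] at hx
    omega
  have hc : ∀ {a b : ON}, a * b = b * a → (g * a * g⁻¹) * (g * b * g⁻¹) = (g * b * g⁻¹) * (g * a * g⁻¹) := by
    intro a b hab
    calc (g * a * g⁻¹) * (g * b * g⁻¹) = g * (a * b) * g⁻¹ := by group
      _ = g * (b * a) * g⁻¹ := by rw [hab]
      _ = _ := by group
  have h1 := ONInv.card_le (x := g * x * g⁻¹) (T := T.map (MulAut.conj g).toMonoidHom)
    (mem_K0.2 (by rw [← hg]; exact hc hzx.symm)) (by rw [conj_pow, hx3, mul_one, mul_inv_cancel])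
    (fun h => hx1 (by
      have h2 : x = g⁻¹ * (g * x * g⁻¹) * g := by group
      rw [h2, h]; group))
    ((IsPGroup.of_card hT).map _)
    (by
      rintro _ ⟨t, ht, rfl⟩
      exact mem_K0.2 (by rw [← hg]; exact hc (hTz t ht)))
    (by
      rintro _ ⟨t, ht, rfl⟩
      exact hc (hTx t ht))
  rw [card_map_of_injective (MulAut.conj g).injective, hT] at h1
  norm_num at h1

theorem not_27 {u : ON} (hu : orderOf u = 2) : ¬ 3 ^ (2 + 1) ∣ Nat.card (centralizer ({u} : Set ON)) := by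
  obtain ⟨g, hg⟩ := f_conj hu
  rw [← Cent.card_centralizer_conj g u, hg, KFacts.ON.Cent.card_cent]
  norm_num

/-! ### The row -/

theorem comps (FT : ∀ (K : Type) [Group K] [Finite K], Odd (Nat.card K) → Group.IsSolvable K)
    (hS : AllKnown.{0}) (T : OrderTable.{0}) {x : ON} (hx : orderOf x = 3) :
    Comps 3 ↥(centralizer ({x} : Set ON)) := by
  intro K hK
  have hfin : Finite ON := finite_ON
  have : Fact (Nat.Prime 3) := ⟨Nat.prime_three⟩
  have hO := Lib.Cores.pPrimeCore_normal (G := ↥(centralizer ({x} : Set ON))) 3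
  have hn5 : ¬ 3 ^ (4 + 1) ∣ Nat.card ON := by rw [card_ON]; norm_num
  obtain ⟨E₀, hE₀c, hE₀a, hE₀e⟩ := exists_E
  -- `x` lies in a conjugate of `E₀`
  have hxp : IsPGroup 3 (zpowers x) := IsPGroup.of_card (n := 1) (by rw [Nat.card_zpowers, hx, pow_one])
  obtain ⟨P, hP⟩ := hxp.exists_le_sylow
  have hfac : (Nat.card ON).factorization 3 = 4 := by
    have h0 : Nat.card ON ≠ 0 := Nat.card_pos.ne'
    have h1 : 4 ≤ (Nat.card ON).factorization 3 :=
      (Nat.prime_three.pow_dvd_iff_le_factorization h0).1 (hE₀c ▸ card_subgroup_dvd_card E₀)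
    have h2 : ¬ 4 + 1 ≤ (Nat.card ON).factorization 3 := fun h =>
      hn5 ((Nat.prime_three.pow_dvd_iff_le_factorization h0).2 h)
    omega
  let S : Sylow 3 ON := Sylow.ofCard E₀ (by rw [hE₀c, hfac])
  obtain ⟨g, hg⟩ := MulAction.exists_smul_eq ON S P
  let E : Subgroup ON := (P : Subgroup ON)
  have hE : ∀ a ∈ E, ∃ e ∈ E₀, a = g * e * g⁻¹ := by
    intro a ha
    have ha' : a ∈ (P : Subgroup ON) := ha
    rw [← hg] at ha'
    obtain ⟨e, he, hb⟩ := ha'
    exact ⟨e, he, hb.symm⟩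
  have hEc : Nat.card E = 3 ^ 4 := by
    have h1 : Nat.card P = 3 ^ (Nat.card ON).factorization 3 := P.card_eq_multiplicity
    rw [hfac] at h1
    exact h1
  have hEa : ∀ a ∈ E, ∀ b ∈ E, a * b = b * a := by
    intro a ha b hb
    obtain ⟨a', ha', rfl⟩ := hE a ha
    obtain ⟨b', hb', rfl⟩ := hE b hb
    calc g * a' * g⁻¹ * (g * b' * g⁻¹) = g * (a' * b') * g⁻¹ := by group
      _ = g * (b' * a') * g⁻¹ := by rw [hE₀a a' ha' b' hb']
      _ = _ := by group
  have hEe : ∀ a ∈ E, a ^ 3 = 1 := by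
    intro a ha
    obtain ⟨a', ha', rfl⟩ := hE a ha
    rw [conj_pow, hE₀e a' ha', mul_one, mul_inv_cancel]
  have hxE : x ∈ E := hP (mem_zpowers x)
  have hEC : E ≤ centralizer ({x} : Set ON) := fun a ha => mem_centralizer_singleton_iff.2 (hEa a ha x hxE)
  -- a Sylow 3-subgroup of `C(x)`
  obtain ⟨R⟩ : Nonempty (Sylow 3 ↥(centralizer ({x} : Set ON))) := inferInstance
  obtain ⟨hRc, k, hR⟩ := Cent.exists_conj_of_sylow (E := E) hEc hn5 hEC R
  have hRa : ∀ a ∈ (R : Subgroup ↥(centralizer ({x} : Set ON))), ∀ b ∈ (R : Subgroup ↥(centralizer ({x} : Set ON))),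
      a * b = b * a := by
    intro a ha b hb
    obtain ⟨a', ha', h1⟩ := hR a ha
    obtain ⟨b', hb', h2⟩ := hR b hb
    apply Subtype.ext
    rw [Subgroup.coe_mul, Subgroup.coe_mul, h1, h2]
    calc k * a' * k⁻¹ * (k * b' * k⁻¹) = k * (a' * b') * k⁻¹ := by group
      _ = k * (b' * a') * k⁻¹ := by rw [hEa a' ha' b' hb']
      _ = _ := by group
  have hRe : ∀ a ∈ (R : Subgroup ↥(centralizer ({x} : Set ON))), a ^ 3 = 1 := by
    intro a ha
    obtain ⟨a', ha', h1⟩ := hR a ha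
    apply Subtype.ext
    rw [Subgroup.coe_pow, h1, conj_pow, hEe a' ha', mul_one, mul_inv_cancel]
    rfl
  -- `K` is simple
  have hKs := Count.isSimpleGroup Nat.prime_three R hRa K hK
  have hKc := Count.center_eq_bot Nat.prime_three R hRa K hK
  have hKn : ¬ IsMulCommutative K := SignalizersComponents.Components.quasisimple_not_isMulCommutative hK.2
  have hKna : ¬ ∀ a b : K, a * b = b * a := fun h => hKn ⟨⟨h⟩⟩
  have h16 := not_16 hx
  -- orders
  have hxm : x ∈ centralizer ({x} : Set ON) := mem_centralizer_singleton_iff.2 rfl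
  have hxc : (⟨x, hxm⟩ : ↥(centralizer ({x} : Set ON))) ∈ center ↥(centralizer ({x} : Set ON)) := by
    rw [mem_center_iff]
    rintro ⟨y, hy⟩
    exact Subtype.ext (mem_centralizer_singleton_iff.1 hy)
  have hcK : Nat.card (K ⧸ center K) = Nat.card K :=
    Nat.card_congr ((QuotientGroup.quotientMulEquivOfEq hKc).trans QuotientGroup.quotientBot).toEquiv
  have hKH : Nat.card K ∣ Nat.card ↥(centralizer ({x} : Set ON)) := Count.card_quot_dvd _ K
  have hK3 : 3 * Nat.card K ∣ Nat.card ON := by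
    have h1 := Count.mul_card_dvd Nat.prime_three ((Subgroup.orderOf_mk x hxm).trans hx) hxc K
    rw [hcK] at h1
    exact h1.trans (card_subgroup_dvd_card _)
  have hKd : Nat.card K ∣ 2 ^ 3 * 3 ^ 3 * 5 * 7 ^ 3 * 11 * 19 * 31 := by
    have h1 : Nat.card K ∣ 2 ^ 9 * (3 ^ 3 * 5 * 7 ^ 3 * 11 * 19 * 31) := by
      rw [card_ON, show 460815505920 = 3 * (2 ^ 9 * (3 ^ 3 * 5 * 7 ^ 3 * 11 * 19 * 31)) by norm_num] at hK3
      exact Nat.dvd_of_mul_dvd_mul_left (by norm_num) hK3
    have h2 : ¬ 2 ^ 4 ∣ Nat.card K := fun h => h16 ((show 16 ∣ Nat.card K by simpa only [_root_.Nat.reducePow] using h).trans hKH)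
    obtain ⟨a, b, ha, hb, hab⟩ := exists_dvd_and_dvd_of_dvd_mul h1
    obtain ⟨j, hj, hj2⟩ := (Nat.dvd_prime_pow Nat.prime_two).1 ha
    have hj3 : j ≤ 3 := by
      by_contra hlt
      apply h2
      rw [hab, hj2]
      exact (pow_dvd_pow 2 (show 4 ≤ j by omega)).trans (dvd_mul_right _ _)
    rw [hab, hj2]
    have h3 : 2 ^ j * b ∣ 2 ^ 3 * (3 ^ 3 * 5 * 7 ^ 3 * 11 * 19 * 31) := mul_dvd_mul (pow_dvd_pow 2 hj3) hb
    simpa only [mul_assoc, _root_.Nat.reducePow, _root_.Nat.reduceMul] using h3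
  -- `9 ∣ |K|`
  have h9 : 9 ∣ Nat.card K := by
    obtain ⟨u, hu, h1⟩ := Count.card_dvd FT h16 R K hK
    have h2 := Cent.card_inf_dvd Nat.prime_three R.2 u (not_27 (u := (u : ON)) (by rw [Subgroup.orderOf_coe, hu]))
    have h3 : 3 ^ 4 ∣ 3 ^ (Nat.card (K ⧸ center K)).factorization 3 * 3 ^ 2 := by
      rw [← hRc]; exact h1.trans (mul_dvd_mul_left _ h2)
    rw [hcK, ← pow_add] at h3
    have h4 := (Nat.pow_dvd_pow_iff_le_right (by norm_num)).1 h3
    have h5 : 3 ^ 2 ∣ Nat.card K :=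
      (Nat.prime_three.pow_dvd_iff_le_factorization Nat.card_pos.ne').2 (by omega)
    simpa only [_root_.Nat.reducePow] using h5
  have hinC : IsCpSimple 3 K → InC 3 K := fun h => SpSix.inC_of_simple (by norm_num) hKs hKn h
  obtain ⟨t, ht, hr⟩ := exists_real_filter T (hS K) hKna (l := [(2, 3), (3, 3), (5, 1), (7, 3), (11, 1), (19, 1), (31, 1)])
    (N := 2 ^ 3 * 3 ^ 3 * 5 * 7 ^ 3 * 11 * 19 * 31) (by decide +kernel) hKd (fun n => n % 9 == 0)
    (by simpa only [_root_.beq_iff_eq] using Nat.mod_eq_zero_of_dvd h9)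
  rw [show (cands [(2, 3), (3, 3), (5, 1), (7, 3), (11, 1), (19, 1), (31, 1)]
      (2 ^ 3 * 3 ^ 3 * 5 * 7 ^ 3 * 11 * 19 * 31)).filter (fun g => ordN g % 9 == 0) =
    [.alt 6, .alt 7, .psl 2 8, .psl 2 9, .psl 2 19] from by decide +kernel] at ht
  simp only [List.mem_cons, List.not_mem_nil, or_false] at ht
  rcases ht with rfl | rfl | rfl | rfl | rfl
  · -- A6
    exact hinC (Or.inr (Or.inl ⟨6, Or.inr (Or.inl rfl), hr⟩))
  · -- A7
    exfalso
    obtain ⟨e⟩ := hr
    have h1 : ¬ 3 ^ (1 + 1) ∣ Nat.card {v : K ⧸ center K // orderOf v = 2} := by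
      rw [AltSeven.card_inv_of_equiv
        (((QuotientGroup.quotientMulEquivOfEq hKc).trans QuotientGroup.quotientBot).trans e)]
      norm_num
    obtain ⟨u, hu, h2⟩ := Count.card_dvd_of_inv FT Nat.prime_three (by norm_num)
      (fun h => h16 ((by norm_num : 16 ∣ 64).trans h)) R K hK h1
    have h3 := Cent.card_inf_dvd Nat.prime_three R.2 u (not_27 (u := (u : ON)) (by rw [Subgroup.orderOf_coe, hu]))
    have h4 : 3 ^ 4 ∣ 3 ^ 1 * 3 ^ 2 := by
      rw [← hRc]; exact h2.trans (mul_dvd_mul_left _ h3)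
    norm_num at h4
  · -- L2(8)
    obtain ⟨F, _, _, hF, he⟩ := hr
    exact hinC (Or.inl (Or.inr (Or.inr ⟨rfl, F, _, _, hF, he⟩)))
  · -- L2(9)
    obtain ⟨F, _, _, hF, he⟩ := hr
    have hch : CharP F 3 := charP_of_card_eq_prime_pow (f := 2) (by rw [hF]; norm_num)
    exact hinC (Or.inl (Or.inl (Or.inl ⟨F, _, _, hch, 2, le_rfl, fun _ => by rw [hF]; norm_num, he⟩)))
  · -- L2(19)
    exfalso
    obtain ⟨F, _, _, hF, ⟨e⟩⟩ := hr
    have h3F : (3 : F) ≠ 0 := by
      intro h
      have h1 : (3 : ℕ) ∣ Fintype.card F := by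
        have h2 : addOrderOf (1 : F) ∣ 3 := addOrderOf_dvd_of_nsmul_eq_zero (by simpa only [_root_.nsmul_eq_mul, _root_.Nat.cast_ofNat, _root_.mul_one] using h)
        rcases (Nat.dvd_prime Nat.prime_three).1 h2 with h3 | h3
        · exact absurd (AddMonoid.addOrderOf_eq_one_iff.1 h3) one_ne_zero
        · rw [← h3]; exact addOrderOf_dvd_card
      rw [hF] at h1
      norm_num at h1
    obtain ⟨P⟩ : Nonempty (Sylow 3 K) := inferInstance
    have hPp : IsPGroup 3 ((P : Subgroup K).map K.subtype) := P.2.map _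
    have h1 := Cent.card_le_of_rank e (CpAutG.rank_psl_two h3F) (P : Subgroup K)
      (fun a ha b hb => Subtype.ext (Count.comm_of_sylow R hRa _ hPp _ ⟨a, ha, rfl⟩ _ ⟨b, hb, rfl⟩))
      (fun a ha => Subtype.ext (Count.pow_of_sylow R hRe _ hPp _ ⟨a, ha, rfl⟩))
    have h2 : 3 ^ 2 ∣ Nat.card P := P.pow_dvd_card_of_pow_dvd_card (by simpa only [_root_.Nat.reducePow] using h9)
    have h3 := Nat.le_of_dvd Nat.card_pos h2
    omega

/-- **row `O'N`, `p = 3`** -/
theorem row (FT : ∀ (K : Type) [Group K] [Finite K], Odd (Nat.card K) → Group.IsSolvable K)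
    (hS : AllKnown.{0}) (T : OrderTable.{0}) : AutC 3 Spor.ON := by
  have hfin : Finite ON := finite_ON
  have hsi : IsSimpleGroup ON := hs
  have hnc : ¬ IsMulCommutative ON := by
    intro h
    obtain ⟨g, hg⟩ := f_conj (z := on .f) (orderOf_eq_prime (by
      rw [pow_two]; exact KFacts.ON.Struct.ff) KFacts.ON.Struct.f_ne_one)
    have h1 : Nat.card (centralizer ({on .f} : Set ON)) = Nat.card ON := by
      have h2 : centralizer ({on .f} : Set ON) = ⊤ := by
        rw [eq_top_iff]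
        intro a _
        exact mem_centralizer_singleton_iff.2 (h.is_comm.comm a _)
      rw [h2, card_top]
    rw [KFacts.ON.Cent.card_cent, card_ON] at h1
    norm_num at h1
  refine autC_of_inner (center_eq_bot_of_simple hnc) (autInner_of_index ?_ ?_) (fun g hg => comps FT hS T hg)
  · have h1 := KFacts.ON.Aut.index_le
    have h2 := KFacts.ON.Aut.finite_aut
    have h3 : ((MulAut.conj : ON →* MulAut ON).range).index ≠ 0 := index_ne_zero_of_finite
    have h4 : ((MulAut.conj : ON →* MulAut ON).range).index = 1 ∨ ((MulAut.conj : ON →* MulAut ON).range).index = 2 := by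
      omega
    rcases h4 with h4 | h4
    · rw [h4]; norm_num
    · rw [h4]; norm_num
  · refine ⟨?_⟩
    rintro _ ⟨g, rfl⟩ φ
    refine ⟨φ g, ?_⟩
    ext y
    show φ g * y * (φ g)⁻¹ = φ (g * φ⁻¹ y * g⁻¹)
    rw [map_mul, map_mul, map_inv]
    have h1 : φ (φ⁻¹ y) = y := by rw [← MulAut.mul_apply, mul_inv_cancel]; rfl
    rw [h1]

end Cfsg.Agent.CpAut.SporThree.ON

end
end
end
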