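import Mathlib
import Cfsg.Agent.CpAut.Base
import Cfsg.Agent.Schreier.MEleven
import Cfsg.Agent.S1603
import Cfsg.Agent.Classification.TypeZ.Comp
import Cfsg.Agent.Lib.MatDec
import Cfsg.Agent.Prune
set_option linter.all false
prune_inst 0x7f00000000000000000000000000000000000000000000000000000000000000000000000000000000000000000000000000000000000000000000000000000000000000000000000000000000000000003fffffffffffffffffffffffffffbeffbdffffffff
open scoped Cfsg.Agent.FastGrp

/-!
# S1814: the row `M₁₁`, `p = 3` (helper10)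

`autC : AutC 3 M₁₁`: the centralisers of the elements of order 3 are solvable.
-/

set_option autoImplicit false

open scoped Pointwise

namespace Cfsg.Agent.CpAut.SporThree.MEleven

open Cfsg Subgroup
open Cfsg.Agent.LThree (Comps)

theorem mat_aux' : ∀ u c : Matrix (Fin 2) (Fin 2) (ZMod 3), ¬ (u * u * u = 1 ∧ ¬ (u = 1) ∧ c * u = u * c ∧
    c * c * c * c = 1) ∨ (c = 1 ∨ c = -1) := by
  (set_option synthInstance.maxSize 20000 in open scoped Cfsg.Agent.Lib.MatDec in decide +kernel)

theorem mat_aux (u c : Matrix (Fin 2) (Fin 2) (ZMod 3)) (h1 : u * u * u = 1) (h2 : u ≠ 1) (h3 : c * u = u * c)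
    (h4 : c * c * c * c = 1) : c = 1 ∨ c = -1 :=
  (mat_aux' u c).resolve_left fun h => h ⟨h1, h2, h3, h4⟩

/-- an element of order 3 of `GL(2,3)` does not commute with a group of order 4 -/
theorem no_four {X : Type*} [Group X] (e : X ≃* GL (Fin 2) (ZMod 3)) {u : X} (hu : orderOf u = 3) (A : Subgroup X)
    (hA : Nat.card A = 4) (hc : ∀ a ∈ A, a * u = u * a) : False := by
  have hfin : Finite A := Nat.finite_of_card_ne_zero (by rw [hA]; norm_num)
  let f : X →* Matrix (Fin 2) (Fin 2) (ZMod 3) := (Units.coeHom _).comp e.toMonoidHom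
  have hf : Function.Injective f := fun a b h => e.injective (Units.ext h)
  have hu3 : f u * f u * f u = 1 := by
    have h1 : u ^ 3 = 1 := by rw [← hu]; exact pow_orderOf_eq_one u
    rw [← map_mul, ← map_mul, ← pow_two, ← pow_succ, h1, map_one]
  have hu1 : f u ≠ 1 := by
    intro h
    rw [← map_one f] at h
    rw [hf h, orderOf_one] at hu
    omega
  have key : ∀ a : A, f a = 1 ∨ f a = -1 := by
    intro a
    apply mat_aux (f u) (f a) hu3 hu1
    · rw [← map_mul, hc a a.2, map_mul]
    · have h1 : a ^ 4 = 1 := by rw [← hA]; exact pow_card_eq_one'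
      have h2 : (a : X) ^ 4 = 1 := by
        have := congrArg Subtype.val h1
        simpa using this
      rw [← map_mul, ← map_mul, ← map_mul, ← pow_two, ← pow_succ, ← pow_succ, h2, map_one]
  have h1 : Function.Injective (fun a : A => (⟨f a, by simpa using key a⟩ :
      ({1, -1} : Set (Matrix (Fin 2) (Fin 2) (ZMod 3))))) := by
    intro a b h
    exact Subtype.ext (hf (congrArg Subtype.val h))
  have h2 := Nat.card_le_card_of_injective _ h1
  rw [hA, Nat.card_coe_set_eq] at h2
  have h3 := Set.ncard_insert_le (1 : Matrix (Fin 2) (Fin 2) (ZMod 3)) {-1}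
  rw [Set.ncard_singleton] at h3
  omega

/-- the model of `M₁₁` in the library -/
abbrev S11 := ↥(MulAction.stabilizer Cfsg.M24 Cfsg.Spor.squareDodecad ⊓
    MulAction.stabilizer Cfsg.M24 (some 0 : GolayPt))

theorem not_four {g : S11} (hg : orderOf g = 3) : ¬ 4 ∣ Nat.card (centralizer ({g} : Set S11)) := by
  intro h4
  have h2 : Fact (Nat.Prime 2) := ⟨Nat.prime_two⟩
  have hfin : Finite S11 := Nat.finite_of_card_ne_zero (by rw [Schreier.MEleven.isM11.2]; norm_num)
  obtain ⟨A, hA⟩ := Sylow.exists_subgroup_card_pow_prime (G := ↥(centralizer ({g} : Set S11))) 2 (n := 2)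
    (by simpa using h4)
  have hA4 : Nat.card A = 4 := by rw [hA]; norm_num
  have hAc : ∀ a ∈ A, ∀ b ∈ A, a * b = b * a := by
    have := IsPGroup.isMulCommutative_of_card_eq_prime_sq (p := 2) (G := A) hA
    intro a ha b hb
    exact congrArg Subtype.val (this.is_comm.comm ⟨a, ha⟩ ⟨b, hb⟩)
  obtain ⟨s, hs⟩ := exists_prime_orderOf_dvd_card' (G := A) 2 (by rw [hA4]; norm_num)
  let t : S11 := ((s : ↥(centralizer ({g} : Set S11))) : S11)
  have ht : orderOf t = 2 := by
    rw [Subgroup.orderOf_coe, Subgroup.orderOf_coe]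
    exact hs
  obtain ⟨e⟩ := S1603.result _ Schreier.MEleven.squareDodecad_mem _ Schreier.MEleven.zero_mem t ht
  have htg : g * t = t * g := (mem_centralizer_singleton_iff.1 (s : ↥(centralizer ({g} : Set S11))).2).symm
  let B : Subgroup S11 := A.map (centralizer ({g} : Set S11)).subtype
  have hB : B ≤ centralizer ({t} : Set S11) := by
    rintro _ ⟨a, ha, rfl⟩
    rw [mem_centralizer_singleton_iff]
    exact congrArg Subtype.val (hAc a ha s s.2)
  have hBc : Nat.card B = 4 := by
    show Nat.card (A.map (centralizer ({g} : Set S11)).subtype) = 4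
    rw [card_map_of_injective (centralizer ({g} : Set S11)).subtype_injective, hA4]
  refine no_four e (u := ⟨g, mem_centralizer_singleton_iff.2 htg⟩) ?_ (B.subgroupOf (centralizer ({t} : Set S11))) ?_ ?_
  · rw [Subgroup.orderOf_mk]; exact hg
  · rw [Nat.card_congr (subgroupOfEquivOfLe hB).toEquiv, hBc]
  · intro b hb
    obtain ⟨a, -, hab⟩ := mem_subgroupOf.1 hb
    apply Subtype.ext
    show (b : S11) * g = g * b
    rw [← hab]
    exact mem_centralizer_singleton_iff.1 a.2

theorem comps (FT : ∀ (K : Type) [Group K] [Finite K], Odd (Nat.card K) → Group.IsSolvable K) {g : S11}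
    (hg : orderOf g = 3) : Comps 3 ↥(centralizer ({g} : Set S11)) := by
  have hfin : Finite S11 := Nat.finite_of_card_ne_zero (by rw [Schreier.MEleven.isM11.2]; norm_num)
  exact Comps.of_solvable (Classification.TypeZ.Comp.isSolvable_of_not_four_dvd FT (not_four hg))

theorem autInner : AutInner 3 S11 := by
  have hfin : Finite S11 := Nat.finite_of_card_ne_zero (by rw [Schreier.MEleven.isM11.2]; norm_num)
  intro x _
  exact SectRankFour.AutM11.exists_conj Schreier.MEleven.isM11 x

theorem center_bot : center S11 = ⊥ := by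
  have hs := Schreier.MEleven.isM11.1
  apply center_eq_bot_of_simple
  intro h
  let _ : CommGroup S11 := { (inferInstance : Group S11) with mul_comm := fun a b => h.is_comm.comm a b }
  have h1 : (Nat.card S11).Prime := IsSimpleGroup.prime_card (α := S11)
  rw [Schreier.MEleven.isM11.2] at h1
  norm_num at h1

theorem autC_model (FT : ∀ (K : Type) [Group K] [Finite K], Odd (Nat.card K) → Group.IsSolvable K) :
    AutC 3 S11 := autC_of_inner center_bot autInner fun _ hg => comps FT hg

/-- S1814, `M₁₁`, `p = 3` -/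
theorem autC (FT : ∀ (K : Type) [Group K] [Finite K], Odd (Nat.card K) → Group.IsSolvable K) {G : Type*} [Group G]
    (h : Spor.IsoM11 G) : AutC 3 G := by
  obtain ⟨e⟩ := h
  exact (autC_model FT).congr (Schreier.MEleven.equiv.trans e.symm)

end Cfsg.Agent.CpAut.SporThree.MEleven
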