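import Cfsg.Agent.TypeM.ResidCard_m3
import Cfsg.Agent.TypeM.FactsLy
import Cfsg.Agent.TypeM.OutLyFin
import Cfsg.Agent.TypeM.FactsMcL
import Cfsg.Agent.TypeM.FactsAut
import Mathlib
import Cfsg.Agent.McLType.ThreeElts
import Cfsg.Agent.CpAut.SporThree.Cent
import Cfsg.Agent.SporRec.TwoAnEleven
import Cfsg.Agent.H341.ThreeList_m3
import Cfsg.Agent.FastGrp
import Cfsg.Agent.Prune
set_option linter.all false
prune_inst 0x7f00000000000000000000000000000000000000000000000000000000000000000000000000000000000000000000000000000000000000000000000000000000000000000000000000000000000000003fffffffffffffffffffffffffffbeffbdffffffff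
open scoped Cfsg.Agent.FastGrp

-- part: TypeM/LAll
section
-- merged: Cfsg.Agent.TypeM.LFactsLyIso
section

/-!
# The facts on groups isomorphic to the Lyons group
-/

set_option autoImplicit false

namespace Cfsg.Agent.TypeM.LyL

end Cfsg.Agent.TypeM.LyL

end

-- merged: Cfsg.Agent.TypeM.LAll
section

/-!
# All facts on `McL` and `Ly` which are used in Theorem W

`LAll ε s ε' s'`: `LFacts` and the facts (o1), (o1'), (o2), (o3) on the automorphisms; `exists_mcl`, `exists_ly`,
`exists_of_mt`.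
-/

set_option autoImplicit false

namespace Cfsg.Agent.TypeM.LAll

open Subgroup Equiv Cfsg.Agent.TypeM.Two Cfsg.Agent.TypeM.OuterMcL

/-- the facts on `L` and its automorphisms -/
structure Facts {L : Type*} [Group L] (ε s ε' s' : ℕ → L) : Prop where
  F : LFacts ε s ε' s'
  o1 : ∀ φ : MulAut L, (∀ i < 16, ∃ j < 16, φ (ε i) = ε j) → φ ∈ (MulAut.conj : L →* MulAut L).range
  o1' : ∀ φ : MulAut L, (∀ i < 16, ∃ j < 16, φ (ε' i) = ε' j) → φ ∈ (MulAut.conj : L →* MulAut L).range
  o2 : ∀ φ : MulAut L, φ * φ = 1 → ∀ A : Subgroup L, (∀ x ∈ A, x * x = 1) → Nat.card A = 8 →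
    (∀ x ∈ A, φ x = x) → φ ∈ (MulAut.conj : L →* MulAut L).range
  o3 : ∀ φ ψ : MulAut L, φ ∉ (MulAut.conj : L →* MulAut L).range → ψ ∉ (MulAut.conj : L →* MulAut L).range →
    φ * ψ ∈ (MulAut.conj : L →* MulAut L).range

/-- groups with one class of involutions and centraliser `2.A_8`, of order `|McL|` -/
theorem exists_of_mt8 {M : Type*} [Group M] [Finite M] (L : MT 8 M) (hcard : Nat.card M = 898128000) :
    ∃ ε s ε' s' : ℕ → M, Facts ε s ε' s' := by
  obtain ⟨a, b, c, x, y, w, u, d, D⟩ := LFactsMcL.exists_data L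
  have F := LFactsMcL.lfacts L D
  have hE : ExPerm L := OutLyFin.exPerm L (by norm_num)
  have hI : EvenInner L := OutLyFin.evenInner L (Or.inl rfl) (Or.inl ⟨rfl, hcard⟩)
  have h1 : LFactsMcL.e1 L.t u b c 1 = L.t := by rw [LFactsMcL.e1, Cfsg.Agent.McLType.Relators.four_one]
  have h2 : LFactsMcL.e2 L.t u a b 1 = L.t := by
    rw [LFactsMcL.e2, show LFactsMcL.sw 1 = 1 from rfl, Cfsg.Agent.McLType.Relators.four_one]
  -- the centre is trivial
  have hc : ∀ x : M, (∀ y, x * y = y * x) → x = 1 := by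
    intro x hx
    have hxt : x ∈ centralizer ({L.t} : Set M) := mem_centralizer_singleton_iff.2 (hx _)
    have h3 : (⟨x, hxt⟩ : centralizer ({L.t} : Set M)) ∈ center (centralizer ({L.t} : Set M)) :=
      mem_center_iff.2 fun g => Subtype.ext (hx g).symm
    rcases (L.K.mem_center_iff (by simp)).1 h3 with h4 | h4
    · exact congrArg Subtype.val h4
    · exfalso
      have h5 : x = L.t := (congrArg Subtype.val h4).trans L.hz
      obtain ⟨v, hv1, hv2, hv3, -⟩ := FactsAut.exists_u L (Or.inl rfl)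
      obtain ⟨g, hg⟩ := L.one v hv1 hv2
      rw [← h5, ← hx g, mul_inv_cancel_right] at hg
      exact hv3 (by rw [← hg, h5])
  exact ⟨_, _, _, _, F, fun φ h => inner_of_norm L hE hI hc h1 F.E.mul F.E.inj F.E.sε h,
    fun φ h => inner_of_norm L hE hI hc h2 F.E'.mul F.E'.inj F.E'.sε h,
    fun φ _ A hA hA8 h => inner_of_fix L hE hI hA (by rw [hA8]) h, fun φ ψ h h' => inner_mul L hE hI h h'⟩

/-- **The facts for `McL`.** -/
theorem exists_mcl {M : Type*} [Group M] (h : Cfsg.Spor.IsoMcL M) : ∃ ε s ε' s' : ℕ → M, Facts ε s ε' s' := by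
  obtain ⟨h1, -, h3, ⟨L⟩⟩ := FactsMcL.facts h
  exact exists_of_mt8 L h3

end Cfsg.Agent.TypeM.LAll

end
end

-- part: CpAut/SporThree/McL
section
-- merged: Cfsg.Agent.CpAut.SporThree.AltEight
section

/-!
# Centralisers of elements of order 3 in the alternating group of degree 8 (helper10)

`not_eight` : a subgroup of `A₈` commuting with an element of order 3 has order not divisible by 8.
-/

set_option autoImplicit false

namespace Cfsg.Agent.CpAut.SporThree.AltEight

open Equiv Equiv.Perm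

theorem cycleType_cases {y : Perm (Fin 8)} (hy : orderOf y = 3) : y.cycleType = {3} ∨ y.cycleType = {3, 3} := by
  obtain ⟨n, hn⟩ := cycleType_prime_order (σ := y) (by rw [hy]; exact Nat.prime_three)
  rw [hy] at hn
  have h2 : y.cycleType.sum ≤ Fintype.card (Fin 8) := by
    rw [sum_cycleType]
    exact Finset.card_le_univ _
  rw [hn, Multiset.sum_replicate, Fintype.card_fin, smul_eq_mul] at h2
  have hn2 : n ≤ 1 := by omega
  rw [hn]
  interval_cases n
  · left; rfl
  · right; rfl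

theorem card_cent {y : Perm (Fin 8)} (hy : orderOf y = 3) :
    Nat.card (Subgroup.centralizer ({y} : Set (Perm (Fin 8)))) = 360 ∨
      Nat.card (Subgroup.centralizer ({y} : Set (Perm (Fin 8)))) = 36 := by
  rcases cycleType_cases hy with h | h
  · left
    rw [nat_card_centralizer, h]
    decide
  · right
    rw [nat_card_centralizer, h]
    decide

theorem exists_swap {y : Perm (Fin 8)} (hy : orderOf y = 3) : ∃ a b : Fin 8, a ≠ b ∧ swap a b * y = y * swap a b := by
  have hs : y.support.card ≤ 6 := by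
    rw [← sum_cycleType]
    rcases cycleType_cases hy with h | h <;> rw [h] <;> decide
  have h1 : 2 ≤ (y.supportᶜ).card := by
    rw [Finset.card_compl, Fintype.card_fin]
    omega
  obtain ⟨a, ha, b, hb, hab⟩ := Finset.one_lt_card.1 h1
  refine ⟨a, b, hab, ?_⟩
  rw [Finset.mem_compl, mem_support, not_not] at ha hb
  rw [swap_mul_eq_mul_swap]
  have h2 : y⁻¹ a = a := by rw [inv_eq_iff_eq, ha]
  have h3 : y⁻¹ b = b := by rw [inv_eq_iff_eq, hb]
  rw [h2, h3]

/-- a subgroup of `A₈` commuting with an element of order 3 has order not divisible by 8 -/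
theorem not_eight {y : Perm (Fin 8)} (hy : orderOf y = 3) (B : Subgroup (Perm (Fin 8)))
    (hB : B ≤ alternatingGroup (Fin 8)) (hBy : ∀ b ∈ B, b * y = y * b) : ¬ 8 ∣ Nat.card B := by
  intro h8
  set C := Subgroup.centralizer ({y} : Set (Perm (Fin 8))) with hC
  have hBC : B ≤ C ⊓ alternatingGroup (Fin 8) := fun b hb =>
    ⟨Subgroup.mem_centralizer_singleton_iff.2 (hBy b hb), hB hb⟩
  have h1 : 8 ∣ Nat.card (C ⊓ alternatingGroup (Fin 8) : Subgroup (Perm (Fin 8))) :=
    h8.trans (Subgroup.card_dvd_of_le hBC)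
  obtain ⟨a, b, hab, hc⟩ := exists_swap hy
  have hsC : swap a b ∈ C := Subgroup.mem_centralizer_singleton_iff.2 hc
  -- the sign on `C`
  let f : C →* ℤˣ := sign.comp C.subtype
  have hf : Function.Surjective f := by
    intro u
    rcases Int.units_eq_one_or u with rfl | rfl
    · exact ⟨1, map_one _⟩
    · exact ⟨⟨swap a b, hsC⟩, sign_swap hab⟩
  have h2 : f.ker.index = 2 := by
    rw [Subgroup.index_ker, f.range_eq_top.2 hf, Subgroup.card_top, Nat.card_eq_fintype_card]
    rfl
  have h3 : Nat.card f.ker = Nat.card (C ⊓ alternatingGroup (Fin 8) : Subgroup (Perm (Fin 8))) := by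
    have h4 : f.ker.map C.subtype = C ⊓ alternatingGroup (Fin 8) := by
      ext g
      constructor
      · rintro ⟨c, hc, rfl⟩
        exact ⟨c.2, hc⟩
      · rintro ⟨h5, h6⟩
        exact ⟨⟨g, h5⟩, h6, rfl⟩
    rw [← h4, Subgroup.card_map_of_injective C.subtype_injective]
  have h4 := Subgroup.card_mul_index f.ker
  rw [h2, h3] at h4
  have h5 : 16 ∣ Nat.card C := by
    rw [← h4]
    exact mul_dvd_mul h1 (dvd_refl 2)
  rcases card_cent hy with h6 | h6 <;> rw [← hC] at h6 <;> rw [h6] at h5 <;> norm_num at h5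

end Cfsg.Agent.CpAut.SporThree.AltEight

end

-- merged: Cfsg.Agent.CpAut.SporThree.McLBig
section

/-!
# Centralisers of the elements of order 3 of the McLaughlin group (helper10)

`dvd_card` : `3 ^ 5` divides `|C(x)|` for every element `x` of order 3 of `G1`.
The elements of `⟨π 2, π 3, π 5⟩` have at most three conjugates in the Sylow 3-subgroup `P`; the representatives of
`ThreeElts.classes` are conjugate to such elements.
-/

set_option autoImplicit false

namespace Cfsg.Agent.CpAut.SporThree.McLBig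

open Subgroup
open Cfsg Cfsg.Agent.SporadicStructure.PermChain Cfsg.Agent.McLType.Chain Cfsg.Agent.McLType.X275
  Cfsg.Agent.McLType.Gens Cfsg.Agent.McLType.Model Cfsg.Agent.McLType.ThreeElts

/-- representative of a class, conjugating word, target word -/
def table : List (List ℕ × List (Fin 7) × List ℕ) := [
  ([0], [4, 5, 0, 4, 3, 2, 6, 4, 5, 3, 6], [2, 2, 3, 5, 5]),
  ([1, 1, 5], [4, 0, 5, 4, 3, 5, 4, 6, 5, 3, 2], [2, 5]),
  ([0, 0, 1, 1, 2, 2, 5], [4, 1, 5, 3, 6, 4, 3, 5, 2], [2, 5]),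
  ([0, 0, 1, 2, 5], [0, 4, 5, 1, 4, 3, 4, 6, 1, 5, 2], [2, 3, 5, 5]),
  ([2], [], [2]),
  ([1, 1, 2, 2, 3], [4, 0, 5, 4, 3, 6, 2, 4, 5, 6], [2, 2, 3, 5, 5]),
  ([0, 0, 1, 1, 2, 3, 5], [5, 2, 1, 2], [2, 5, 5]),
  ([0, 0, 1, 2, 2, 5], [5, 2, 1, 6], [2, 5]),
  ([1, 1, 2], [5, 2, 1, 2], [2]),
  ([0, 0, 1, 2, 2], [4, 3, 6, 5, 1, 6, 5, 4, 0, 2], [2, 5]),
  ([0, 0, 1, 1, 2], [4, 0, 5, 4, 3, 6, 5, 2, 1, 4, 0], [2, 2, 5]),
  ([3], [], [3]),
  ([4], [3], [3, 3]),
  ([3, 3, 4], [3, 6, 2], [2, 3, 3]),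
  ([3, 4], [0, 6, 0, 3, 6], [2, 2, 3, 3, 5]),
  ([5], [], [5]),
  ([0, 2, 2, 5], [4, 5, 0, 4, 3, 4, 6, 5, 0, 6, 0], [2, 2, 5, 5]),
  ([0, 0, 5], [5, 2, 1, 2], [5, 5]),
  ([2, 5], [], [2, 5]),
  ([2, 2, 5], [], [2, 2, 5])]

/-! ### Equalities in `P` -/

def eqB (l m : List ℕ) : Bool :=
  (l.all (fun s => Nat.blt s 6) && m.all (fun s => Nat.blt s 6)) &&
    (Nat.beq (evalWord 9 pt l 1) (evalWord 9 pt m 1) && Nat.beq (evalWord 9 pt l 2) (evalWord 9 pt m 2))

theorem eq_of_eqB {l m : List ℕ} (h : eqB l m = true) : (l.map π).prod = (m.map π).prod := by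
  rw [eqB, Bool.and_eq_true, Bool.and_eq_true, Bool.and_eq_true, List.all_eq_true, List.all_eq_true] at h
  obtain ⟨⟨h1, h2⟩, h3, h4⟩ := h
  have h1' : ∀ s ∈ l, s < 6 := fun s hs => by
    have := h1 s hs
    rwa [Nat.blt_eq] at this
  have h2' : ∀ s ∈ m, s < 6 := fun s hs => by
    have := h2 s hs
    rwa [Nat.blt_eq] at this
  refine eq_of_base (word_mem _ h1') (word_mem _ h2') (Fin.ext ?_) (Fin.ext ?_)
  · rw [evalπ _ h1', evalπ _ h2']
    exact Nat.eq_of_beq_eq_true h3
  · rw [evalπ _ h1', evalπ _ h2']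
    exact Nat.eq_of_beq_eq_true h4

/-! ### The centre -/

theorem z_all : allBelow (fun s => eqB [s, 3] [3, s]) 6 = true := by decide +kernel

theorem z_gen {s : ℕ} (hs : s < 6) : π s * π 3 = π 3 * π s := by
  have h := eq_of_eqB (allBelow_spec _ _ z_all s hs)
  simpa only [_root_.List.map_cons, _root_.List.map_nil, _root_.List.prod_cons, _root_.List.prod_nil, _root_.mul_one] using h

theorem z_comm {p : Equiv.Perm (Fin 275)} (hp : p ∈ P) : p * π 3 = π 3 * p := by
  have h : P ≤ centralizer ({π 3} : Set (Equiv.Perm (Fin 275))) := by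
    rw [P, closure_le]
    rintro x ⟨s, -, hs, rfl⟩
    exact mem_centralizer_singleton_iff.2 (z_gen hs)
  exact mem_centralizer_singleton_iff.1 (h hp)

theorem z_pow {p u : Equiv.Perm (Fin 275)} (hp : p ∈ P) (hu : u ∈ zpowers (π 3)) : p * u = u * p := by
  obtain ⟨k, rfl⟩ := mem_zpowers_iff.1 hu
  exact (show Commute p (π 3) from z_comm hp).zpow_right k

/-! ### Elements with at most three conjugates in `P` -/

def dOK (d : List ℕ) : Bool :=
  d.all (fun s => Nat.blt s 6) &&
    allBelow (fun s => eqB (s :: d) (d ++ [s]) || (eqB (s :: d) (3 :: (d ++ [s])) || eqB (s :: d) (3 :: 3 :: (d ++ [s])))) 6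

theorem d_all : table.all (fun r => dOK r.2.2) = true := by decide +kernel

/-- the property -/
def Big (x : Equiv.Perm (Fin 275)) : Prop :=
  3 ^ 5 ∣ Nat.card (K0 ⊓ centralizer ({x} : Set (Equiv.Perm (Fin 275))) : Subgroup (Equiv.Perm (Fin 275)))

theorem big_of_dOK {d : List ℕ} (h : dOK d = true) : Big (d.map π).prod := by
  rw [dOK, Bool.and_eq_true, List.all_eq_true] at h
  obtain ⟨h0, h1⟩ := h
  have h0' : ∀ s ∈ d, s < 6 := fun s hs => by
    have := h0 s hs
    rwa [Nat.blt_eq] at this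
  obtain ⟨D, hD⟩ : ∃ D, D = (d.map π).prod := ⟨_, rfl⟩
  have hDP : D ∈ P := by rw [hD]; exact word_mem _ h0'
  have hgen : ∀ s < 6, π s * D * (π s)⁻¹ * D⁻¹ ∈ zpowers (π 3) := by
    intro s hs
    have hz : ∀ u : Equiv.Perm (Fin 275), π s * D = u * (D * π s) → π s * D * (π s)⁻¹ * D⁻¹ = u := by
      intro u hu
      rw [hu]; group
    have h2 := allBelow_spec _ _ h1 s hs
    rw [Bool.or_eq_true, Bool.or_eq_true] at h2
    rcases h2 with h2 | h2 | h2
    · have h3 := eq_of_eqB h2
      simp only [List.map_cons, List.prod_cons, List.map_append, List.prod_append, List.map_nil, List.prod_nil,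
        mul_one, ← hD] at h3
      rw [hz 1 (by rw [one_mul]; exact h3)]
      exact one_mem _
    · have h3 := eq_of_eqB h2
      simp only [List.map_cons, List.prod_cons, List.map_append, List.prod_append, List.map_nil, List.prod_nil,
        mul_one, ← hD] at h3
      rw [hz (π 3) h3]
      exact mem_zpowers _
    · have h3 := eq_of_eqB h2
      simp only [List.map_cons, List.prod_cons, List.map_append, List.prod_append, List.map_nil, List.prod_nil,
        mul_one, ← hD] at h3
      rw [hz (π 3 * π 3) (by rw [h3, mul_assoc])]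
      exact mul_mem (mem_zpowers _) (mem_zpowers _)
  have hmul : ∀ p q : Equiv.Perm (Fin 275), p ∈ P → q * D * q⁻¹ * D⁻¹ ∈ zpowers (π 3) →
      (p * q) * D * (p * q)⁻¹ * D⁻¹ = (p * D * p⁻¹ * D⁻¹) * (q * D * q⁻¹ * D⁻¹) := by
    intro p q hp hq
    obtain ⟨u, hu⟩ : ∃ u, u = q * D * q⁻¹ * D⁻¹ := ⟨_, rfl⟩
    rw [← hu] at hq ⊢
    have h2 : q * D * q⁻¹ = u * D := by rw [hu]; group
    have h3 := z_pow hp hq
    have h4 := z_pow (P.inv_mem hp) hq
    have h5 := z_pow hDP hq
    have h6 := z_pow (P.inv_mem hDP) hq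
    calc (p * q) * D * (p * q)⁻¹ * D⁻¹ = p * (q * D * q⁻¹) * p⁻¹ * D⁻¹ := by group
      _ = (p * u) * D * p⁻¹ * D⁻¹ := by rw [h2]; group
      _ = u * (p * D * p⁻¹ * D⁻¹) := by rw [h3]; group
      _ = (p * D * p⁻¹ * D⁻¹) * u := by
        have h7 : p * D * p⁻¹ * D⁻¹ ∈ P := P.mul_mem (P.mul_mem (P.mul_mem hp hDP) (P.inv_mem hp)) (P.inv_mem hDP)
        exact (z_pow h7 hq).symm
  have hall : ∀ p ∈ P, p * D * p⁻¹ * D⁻¹ ∈ zpowers (π 3) := by
    intro p hp
    have hp' := hp
    rw [P] at hp'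
    induction hp' using closure_induction with
    | mem x hx =>
      obtain ⟨s, -, hs, rfl⟩ := hx
      exact hgen s hs
    | one =>
      have : (1 : Equiv.Perm (Fin 275)) * D * 1⁻¹ * D⁻¹ = 1 := by group
      rw [this]; exact one_mem _
    | mul x y hx hy ihx ihy =>
      rw [hmul x y hx (ihy hy)]
      exact mul_mem (ihx hx) (ihy hy)
    | inv x hx ih =>
      have h2 := ih hx
      have h3 := hmul x⁻¹ x (P.inv_mem hx) h2
      have h4 : (x⁻¹ * x) * D * (x⁻¹ * x)⁻¹ * D⁻¹ = 1 := by group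
      rw [h4] at h3
      have h5 : x⁻¹ * D * x⁻¹⁻¹ * D⁻¹ = (x * D * x⁻¹ * D⁻¹)⁻¹ := eq_inv_of_mul_eq_one_left h3.symm
      rw [h5]
      exact inv_mem h2
  let f : P →* zpowers (π 3) :=
    { toFun := fun p => ⟨(p : Equiv.Perm (Fin 275)) * D * (p : Equiv.Perm (Fin 275))⁻¹ * D⁻¹, hall p p.2⟩
      map_one' := Subtype.ext (by
        show (1 : Equiv.Perm (Fin 275)) * D * 1⁻¹ * D⁻¹ = 1
        group)
      map_mul' := fun p q => Subtype.ext (hmul p q p.2 (hall q q.2)) }
  have hc3 : Nat.card (zpowers (π 3)) ∣ 3 := by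
    rw [Nat.card_zpowers]
    exact orderOf_dvd_of_pow_eq_one (π_cube 3 (by norm_num))
  have hr : Nat.card f.range ∣ 3 := (card_subgroup_dvd_card _).trans hc3
  have hk := card_mul_index f.ker
  rw [index_ker, card_P] at hk
  have h243 : 3 ^ 5 ∣ Nat.card f.ker := by
    rcases (Nat.dvd_prime Nat.prime_three).1 hr with h2 | h2
    · rw [h2, mul_one] at hk
      rw [hk]; norm_num
    · rw [h2] at hk
      have : Nat.card f.ker = 243 := by omega
      rw [this]; norm_num
  have hle : f.ker.map P.subtype ≤ K0 ⊓ centralizer ({D} : Set (Equiv.Perm (Fin 275))) := by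
    rintro _ ⟨p, hp, rfl⟩
    refine ⟨P_le_K0 p.2, mem_centralizer_singleton_iff.2 ?_⟩
    have h2 : (p : Equiv.Perm (Fin 275)) * D * (p : Equiv.Perm (Fin 275))⁻¹ * D⁻¹ = 1 :=
      congrArg Subtype.val (MonoidHom.mem_ker.1 hp)
    have h3 := mul_inv_eq_one.1 h2
    exact mul_inv_eq_iff_eq_mul.1 h3
  have h2 := card_dvd_of_le hle
  rw [card_map_of_injective P.subtype_injective] at h2
  rw [← hD]
  exact h243.trans h2

theorem Big.conj {x y : Equiv.Perm (Fin 275)} (h : Big x) {g : Equiv.Perm (Fin 275)} (hg : g ∈ K0)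
    (hy : y * g = g * x) : Big y := by
  have hle : (K0 ⊓ centralizer ({x} : Set (Equiv.Perm (Fin 275)))).map (MulAut.conj g).toMonoidHom ≤
      K0 ⊓ centralizer ({y} : Set (Equiv.Perm (Fin 275))) := by
    rintro _ ⟨c, ⟨hc1, hc2⟩, rfl⟩
    have hc3 : c * x = x * c := mem_centralizer_singleton_iff.1 hc2
    have hy' : y = g * x * g⁻¹ := by rw [← hy, mul_inv_cancel_right]
    refine ⟨K0.mul_mem (K0.mul_mem hg hc1) (K0.inv_mem hg), mem_centralizer_singleton_iff.2 ?_⟩
    show g * c * g⁻¹ * y = y * (g * c * g⁻¹)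
    rw [hy']
    calc g * c * g⁻¹ * (g * x * g⁻¹) = g * (c * x) * g⁻¹ := by group
      _ = g * (x * c) * g⁻¹ := by rw [hc3]
      _ = _ := by group
  have h1 := card_dvd_of_le hle
  rw [card_map_of_injective (MulAut.conj g).injective] at h1
  exact h.trans h1

theorem Big.pow {x : Equiv.Perm (Fin 275)} (h : Big x) (n : ℕ) : Big (x ^ n) := by
  refine h.trans (card_dvd_of_le (inf_le_inf le_rfl ?_))
  intro c hc
  rw [mem_centralizer_singleton_iff] at hc ⊢
  exact (show Commute c x from hc).pow_right n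

/-! ### The classes -/

theorem table_fst : classes.map Prod.fst = table.map Prod.fst := by decide +kernel

def tOK (r : List ℕ × List (Fin 7) × List ℕ) : Bool :=
  (r.1.all (fun s => Nat.blt s 6) && r.2.2.all (fun s => Nat.blt s 6)) &&
    allBelow (fun x => Nat.beq (evalWord 9 tabs (r.2.1.map (fun k => (k : ℕ))) (evalWord 9 pt r.1 x))
      (evalWord 9 pt r.2.2 (evalWord 9 tabs (r.2.1.map (fun k => (k : ℕ))) x))) 275

theorem evalWord_fast : evalWord = fun w ts l x => Nat.rec (motive := fun _ => ℕ)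
    (List.rec (motive := fun _ => ℕ) 0 (fun s _ z => Nat.mod (Nat.shiftRight (ts.getD s 0) (Nat.mul w z)) (Nat.pow 2 w)) l)
    (fun n _ => List.rec (motive := fun _ => ℕ) (Nat.succ n)
      (fun s _ z => Nat.mod (Nat.shiftRight (ts.getD s 0) (Nat.mul w z)) (Nat.pow 2 w)) l) x := by
  funext w ts l x
  have h : ∀ x, evalWord w ts l x = List.rec (motive := fun _ => ℕ) x
      (fun s _ z => Nat.mod (Nat.shiftRight (ts.getD s 0) (Nat.mul w z)) (Nat.pow 2 w)) l := fun x => by
    induction l with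
    | nil => rfl
    | cons s l ih => exact congrArg (look w (ts.getD s 0)) ih
  cases x <;> exact h _

theorem allBelow_fast : allBelow = fun f n => Nat.rec (motive := fun _ => Bool) true (fun n r => and (f n) r) n := by
  funext f n
  induction n with
  | zero => rfl
  | succ n ih => exact congrArg (and (f n)) ih

theorem t_all : table.all tOK = true := by
  delta tOK
  rewrite [evalWord_fast, allBelow_fast]
  decide +kernel

theorem big_table {r : List ℕ × List (Fin 7) × List ℕ} (hr : r ∈ table) : Big (r.1.map π).prod := by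
  have h := List.all_eq_true.1 t_all r hr
  rw [tOK, Bool.and_eq_true, Bool.and_eq_true, List.all_eq_true, List.all_eq_true] at h
  obtain ⟨⟨h1, h2⟩, h3⟩ := h
  have h1' : ∀ s ∈ r.1, s < 6 := fun s hs => by
    have := h1 s hs
    rwa [Nat.blt_eq] at this
  have h2' : ∀ s ∈ r.2.2, s < 6 := fun s hs => by
    have := h2 s hs
    rwa [Nat.blt_eq] at this
  have hd := big_of_dOK (List.all_eq_true.1 d_all r hr)
  have heq : (r.2.1.map σ).prod * (r.1.map π).prod = (r.2.2.map π).prod * (r.2.1.map σ).prod := by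
    refine Equiv.ext fun x => Fin.ext ?_
    rw [Equiv.Perm.mul_apply, Equiv.Perm.mul_apply, evalWord_σ, evalπ _ h1', evalπ _ h2', evalWord_σ]
    exact Nat.eq_of_beq_eq_true (allBelow_spec _ _ h3 x x.2)
  refine hd.conj (K0.inv_mem (word_mem_K0 r.2.1)) ?_
  rw [mul_inv_eq_iff_eq_mul, mul_assoc, eq_inv_mul_iff_mul_eq]
  exact heq

theorem big_class {c : List ℕ × List (Fin 7)} (hc : c ∈ classes) : Big (c.1.map π).prod := by
  have h1 : c.1 ∈ classes.map Prod.fst := List.mem_map_of_mem hc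
  rw [table_fst, List.mem_map] at h1
  obtain ⟨r, hr, h2⟩ := h1
  rw [← h2]
  exact big_table hr

theorem big_of_nf {N : ℕ} (hN : N < 729) (h1 : nf N ≠ 1) (h3 : nf N ^ 3 = 1) : Big (nf N) := by
  have h := allBelow_spec _ _ cert_all N hN
  rw [certOK, Bool.or_eq_true, Bool.or_eq_true, Bool.and_eq_true, Bool.and_eq_true] at h
  rcases h with h | h | ⟨h, h'⟩
  · exact absurd (by rw [Nat.eq_of_beq_eq_true h]; exact nf_zero) h1
  · exfalso
    rw [Bool.not_eq_true', ← Bool.not_eq_true] at h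
    apply h
    have h4 : ∀ x : Fin 275, evalWord 9 pt (wn 6 0 N ++ (wn 6 0 N ++ wn 6 0 N)) x = x := by
      intro x
      rw [← evalπ _ (by
        intro s hs
        simp only [List.mem_append] at hs
        rcases hs with hs | hs | hs <;> exact wn6_lt N s hs), List.map_append, List.map_append, List.prod_append,
        List.prod_append]
      change (((nf N * (nf N * nf N)) x : Fin 275) : ℕ) = x
      have h5 : nf N * (nf N * nf N) = nf N ^ 3 := by rw [pow_succ', pow_two]
      rw [h5, h3]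
      rfl
    rw [fixB, Bool.and_eq_true, Nat.beq_eq, Nat.beq_eq]
    exact ⟨h4 1, h4 2⟩
  · rw [Nat.blt_eq] at h
    obtain ⟨ha, hb⟩ := h'
    generalize (look 20 cert N >>> 2) % 32 = k at h ha hb
    generalize look 20 cert N >>> 7 = g at ha hb
    generalize look 20 cert N % 4 = s at ha hb
    have hmem : classes.getD k ([], []) ∈ classes := by
      rw [List.getD_eq_getElem _ _ h]
      exact List.getElem_mem h
    generalize classes.getD k ([], []) = c at ha hb hmem
    have hgs : Big ((c.1.map π).prod ^ s) := (big_class hmem).pow s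
    have hlt := classes_lt hmem
    have hl : ∀ x ∈ wn 6 0 N ++ wn 6 0 g, x < 6 := by
      intro x hx
      rw [List.mem_append] at hx
      exact hx.elim (wn6_lt N x) (wn6_lt g x)
    have hr : ∀ x ∈ wn 6 0 g ++ rep s c.1, x < 6 := by
      intro x hx
      rw [List.mem_append] at hx
      exact hx.elim (wn6_lt g x) (rep_lt s _ hlt x)
    have heq : nf N * nf g = nf g * (c.1.map π).prod ^ s := by
      have e1 : ((wn 6 0 N ++ wn 6 0 g).map π).prod = nf N * nf g := by
        rw [List.map_append, List.prod_append]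
        rfl
      have e2 : ((wn 6 0 g ++ rep s c.1).map π).prod = nf g * (c.1.map π).prod ^ s := by
        rw [List.map_append, List.prod_append, rep_prod]
        rfl
      rw [← e1, ← e2]
      refine eq_of_base (word_mem _ hl) (word_mem _ hr) (Fin.ext ?_) (Fin.ext ?_)
      · rw [evalπ _ hl, evalπ _ hr]
        exact Nat.eq_of_beq_eq_true ha
      · rw [evalπ _ hl, evalπ _ hr]
        exact Nat.eq_of_beq_eq_true hb
    exact hgs.conj (P_le_K0 (nf_mem g)) heq

theorem big_of_mem {x : Equiv.Perm (Fin 275)} (hx : x ∈ P) (h3 : orderOf x = 3) : Big x := by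
  obtain ⟨N, hN, rfl⟩ := exists_nf6 hx
  refine big_of_nf hN ?_ ?_
  · intro h
    rw [h, orderOf_one] at h3
    exact absurd h3 (by norm_num)
  · rw [← h3]
    exact pow_orderOf_eq_one _

/-- `3 ^ 5` divides `|C(x)|` for every element `x` of order 3 -/
theorem dvd_card (x : G1) (hx : orderOf x = 3) : 3 ^ 5 ∣ Nat.card (centralizer ({x} : Set G1)) := by
  classical
  have hcard : Nat.card (P.comap ψ) = 3 ^ (Nat.card G1).factorization 3 := by
    have h1 : Nat.card (P.comap ψ) = Nat.card P := by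
      have h2 : (P.comap ψ).map ψ = P := by
        rw [Subgroup.map_comap_eq_self]
        intro y hy
        obtain ⟨g, hg⟩ := mem_K0_iff.1 (P_le_K0 hy)
        exact ⟨g, hg⟩
      rw [← h2, Subgroup.comap_map_eq_self_of_injective ψ_injective]
      exact Nat.card_congr ((P.comap ψ).equivMapOfInjective ψ ψ_injective).toEquiv
    rw [h1, card_P, card_G1]
    have h3 : (898128000 : ℕ) = 3 ^ 6 * 1232000 := by norm_num
    have h4 : (898128000 : ℕ).factorization 3 = 6 := by
      rw [h3, Nat.factorization_mul (by norm_num) (by norm_num), Finsupp.add_apply,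
        Nat.factorization_pow, Finsupp.smul_apply, Nat.Prime.factorization_self Nat.prime_three,
        Nat.factorization_eq_zero_of_not_dvd (by norm_num)]
      rfl
    rw [h4]
    norm_num
  have : Fact (Nat.Prime 3) := ⟨Nat.prime_three⟩
  let T : Sylow 3 G1 := Sylow.ofCard (P.comap ψ) hcard
  have hp : IsPGroup 3 (Subgroup.zpowers x) := by
    rw [IsPGroup.iff_card]
    exact ⟨1, by rw [Nat.card_zpowers, hx, pow_one]⟩
  obtain ⟨Q, hQ⟩ := hp.exists_le_sylow
  obtain ⟨g, hg⟩ := MulAction.exists_smul_eq G1 Q T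
  have h1 : g * x * g⁻¹ ∈ (T : Subgroup G1) := by
    rw [← hg]
    exact ⟨x, hQ (Subgroup.mem_zpowers x), rfl⟩
  have h2 : ψ (g * x * g⁻¹) ∈ P := h1
  have h3 : orderOf (ψ (g * x * g⁻¹)) = 3 := by
    rw [orderOf_injective ψ ψ_injective, ← hx]
    exact orderOf_injective (MulAut.conj g).toMonoidHom (MulAut.conj g).injective x
  have h4 := big_of_mem h2 h3
  have h5 : Big (ψ x) := by
    refine h4.conj (g := ψ g⁻¹) (mem_K0_iff.2 ⟨_, rfl⟩) ?_
    rw [← map_mul, ← map_mul]
    congr 1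
    group
  have h6 : (centralizer ({x} : Set G1)).map ψ = K0 ⊓ centralizer ({ψ x} : Set (Equiv.Perm (Fin 275))) := by
    ext y
    constructor
    · rintro ⟨c, hc, rfl⟩
      refine ⟨mem_K0_iff.2 ⟨c, rfl⟩, mem_centralizer_singleton_iff.2 ?_⟩
      rw [← map_mul, ← map_mul, mem_centralizer_singleton_iff.1 hc]
    · rintro ⟨hy1, hy2⟩
      obtain ⟨c, rfl⟩ := mem_K0_iff.1 hy1
      refine ⟨c, mem_centralizer_singleton_iff.2 (ψ_injective ?_), rfl⟩
      rw [map_mul, map_mul]
      exact mem_centralizer_singleton_iff.1 hy2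
  rw [← card_map_of_injective ψ_injective, h6]
  exact h5

end Cfsg.Agent.CpAut.SporThree.McLBig

end

-- merged: Cfsg.Agent.CpAut.SporThree.McL
section

/-!
# S1814: the row `McL`, `p = 3` (helper10)

`row FT hS T : AutC 3 Spor.McL`: the groups `C(x) / O_{3'}(C(x))`, `x` of order 3, have no component (`no_comp`).
-/

set_option autoImplicit false

namespace Cfsg.Agent.CpAut.SporThree.McL

open Subgroup Cfsg
open scoped commutatorElement
open Cfsg.Agent.LThree (Comps)
open Cfsg.Agent.TypeM.Two (MT)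
open Cfsg.Agent.OrdDiv (OrderTable Real Grp cands ordN exists_real_filter)

section

variable {G : Type*} [Group G] [Finite G] (L : MT 8 G)

include L

omit [Finite G] in
theorem t_conj {z : G} (hz : orderOf z = 2) : ∃ g : G, g * z * g⁻¹ = L.t := by
  have h1 : z * z = 1 := by rw [← pow_two, ← hz, pow_orderOf_eq_one]
  have h2 : z ≠ 1 := by
    rintro rfl
    rw [orderOf_one] at hz
    omega
  obtain ⟨g, hg⟩ := L.one z h1 h2
  exact ⟨g⁻¹, by rw [← hg]; group⟩

omit [Finite G] in
theorem card_C : Nat.card (centralizer ({L.t} : Set G)) = 40320 := by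
  have h1 := SporRec.TwoAnEleven.card_comap L.K (S := alternatingGroup (Fin 8)) le_rfl
  have h2 : (alternatingGroup (Fin 8)).comap L.K.π = ⊤ := by
    rw [eq_top_iff]
    intro c _
    show L.K.π c ∈ alternatingGroup (Fin 8)
    rw [← L.K.range_eq]
    exact ⟨c, rfl⟩
  rw [h2, card_top, nat_card_alternatingGroup, Nat.card_fin] at h1
  rw [h1]
  decide

theorem not_27 {u : G} (hu : orderOf u = 2) : ¬ 3 ^ (2 + 1) ∣ Nat.card (centralizer ({u} : Set G)) := by
  obtain ⟨g, hg⟩ := t_conj L hu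
  rw [← Cent.card_centralizer_conj g u, hg, card_C L]
  norm_num

/-- `¬ 16 ∣ |C(x)|` -/
theorem not_16 {x : G} (hx : orderOf x = 3) : ¬ 16 ∣ Nat.card (centralizer ({x} : Set G)) := by
  intro h
  obtain ⟨z, hz, hzx, T, hT, hTx, hTz⟩ := Cent.exists_inv (k := 4) (by norm_num) (by simpa only [_root_.Nat.reducePow] using h)
  obtain ⟨g, hg⟩ := t_conj L hz
  have hc : ∀ {a b : G}, a * b = b * a → (g * a * g⁻¹) * (g * b * g⁻¹) = (g * b * g⁻¹) * (g * a * g⁻¹) := by
    intro a b hab
    calc (g * a * g⁻¹) * (g * b * g⁻¹) = g * (a * b) * g⁻¹ := by group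
      _ = g * (b * a) * g⁻¹ := by rw [hab]
      _ = _ := by group
  have hxC : g * x * g⁻¹ ∈ centralizer ({L.t} : Set G) :=
    mem_centralizer_singleton_iff.2 (by rw [← hg]; exact hc hzx.symm)
  let A : Subgroup (centralizer ({L.t} : Set G)) :=
    (T.map (MulAut.conj g).toMonoidHom).subgroupOf (centralizer ({L.t} : Set G))
  have hle : T.map (MulAut.conj g).toMonoidHom ≤ centralizer ({L.t} : Set G) := by
    rintro _ ⟨t, ht, rfl⟩
    exact mem_centralizer_singleton_iff.2 (by rw [← hg]; exact hc (hTz t ht))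
  have hA : Nat.card A = 16 := by
    have h1 : Nat.card A = Nat.card (T.map (MulAut.conj g).toMonoidHom) :=
      Nat.card_congr (subgroupOfEquivOfLe hle).toEquiv
    rw [h1, card_map_of_injective (MulAut.conj g).injective, hT]
    norm_num
  have hmap : A.map L.K.π ≤ alternatingGroup (Fin 8) := by
    rw [← L.K.range_eq]
    exact map_le_range _ _
  have h1 := SporRec.TwoAnEleven.card_comap L.K hmap
  have h2 : Nat.card A ∣ Nat.card ((A.map L.K.π).comap L.K.π) := card_dvd_of_le (le_comap_map _ _)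
  rw [hA, h1] at h2
  have h8 : 8 ∣ Nat.card (A.map L.K.π) := by omega
  have hxo : orderOf (⟨g * x * g⁻¹, hxC⟩ : centralizer ({L.t} : Set G)) = 3 := by
    rw [Subgroup.orderOf_mk, ← hx]
    exact orderOf_injective (MulAut.conj g).toMonoidHom (MulAut.conj g).injective x
  have hy : orderOf (L.K.π ⟨g * x * g⁻¹, hxC⟩) = 3 := by
    have h3 : orderOf (L.K.π ⟨g * x * g⁻¹, hxC⟩) ∣ 3 := by rw [← hxo]; exact orderOf_map_dvd _ _
    rcases (Nat.dvd_prime Nat.prime_three).1 h3 with h4 | h4
    · exfalso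
      rcases (L.K.ker _).1 (orderOf_eq_one_iff.1 h4) with h5 | h5
      · rw [h5, orderOf_one] at hxo
        omega
      · have h6 := L.K.z_mul_z
        rw [← h5, ← pow_two] at h6
        have h7 := orderOf_dvd_of_pow_eq_one h6
        rw [hxo] at h7
        norm_num at h7
    · exact h4
  refine AltEight.not_eight hy _ hmap ?_ h8
  rintro _ ⟨a, ha, rfl⟩
  obtain ⟨t, ht, hta⟩ := mem_subgroupOf.1 ha
  rw [← map_mul, ← map_mul]
  congr 1
  apply Subtype.ext
  show (a : G) * (g * x * g⁻¹) = g * x * g⁻¹ * (a : G)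
  rw [← hta]
  exact hc (hTx t ht)

end

theorem quot_not_comm {K : Type*} [Group K] (hK : IsQuasisimple K) : ¬ ∀ a b : K ⧸ center K, a * b = b * a := by
  intro h
  apply SignalizersComponents.Components.quasisimple_center_ne_top hK
  rw [eq_top_iff, ← hK.1.commutator_eq_top, commutator_eq_closure, closure_le]
  rintro _ ⟨a, b, rfl⟩
  rw [SetLike.mem_coe, ← QuotientGroup.eq_one_iff]
  show QuotientGroup.mk' (center K) ⁅a, b⁆ = 1
  rw [map_commutatorElement, commutatorElement_eq_one_iff_mul_comm]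
  exact h _ _

/-- no component of `C(x) / O_{3'}(C(x))` -/
theorem no_comp {G : Type} [Group G] [Finite G] (L : MT 8 G) (hG : Nat.card G = 898128000)
    (h5 : ∀ x : G, orderOf x = 3 → 3 ^ 5 ∣ Nat.card (centralizer ({x} : Set G)))
    (FT : ∀ (K : Type) [Group K] [Finite K], Odd (Nat.card K) → Group.IsSolvable K)
    (hS : AllKnown.{0}) (T : OrderTable.{0}) {x : G} (hx : orderOf x = 3)
    (K : Subgroup (↥(centralizer ({x} : Set G)) ⧸ pPrimeCore 3 ↥(centralizer ({x} : Set G)))) : ¬ IsComponent K := by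
  intro hK
  have : Fact (Nat.Prime 3) := ⟨Nat.prime_three⟩
  have hO := Lib.Cores.pPrimeCore_normal (G := ↥(centralizer ({x} : Set G))) 3
  have h16 := not_16 L hx
  obtain ⟨R⟩ : Nonempty (Sylow 3 ↥(centralizer ({x} : Set G))) := inferInstance
  have hRc : 3 ^ 5 ∣ Nat.card R := R.pow_dvd_card_of_pow_dvd_card (h5 x hx)
  have hxm : x ∈ centralizer ({x} : Set G) := mem_centralizer_singleton_iff.2 rfl
  have hxc : (⟨x, hxm⟩ : ↥(centralizer ({x} : Set G))) ∈ center ↥(centralizer ({x} : Set G)) := by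
    rw [mem_center_iff]
    rintro ⟨y, hy⟩
    exact Subtype.ext (mem_centralizer_singleton_iff.1 hy)
  have hKH : Nat.card (K ⧸ center K) ∣ Nat.card ↥(centralizer ({x} : Set G)) :=
    (card_quotient_dvd_card _).trans (Count.card_quot_dvd _ K)
  have hK3 : 3 * Nat.card (K ⧸ center K) ∣ 3 * (2 ^ 7 * (3 ^ 5 * 5 ^ 3 * 7 * 11)) := by
    have h1 := Count.mul_card_dvd Nat.prime_three ((Subgroup.orderOf_mk x hxm).trans hx) hxc K
    have h2 := h1.trans (card_subgroup_dvd_card _)
    rwa [hG, show 898128000 = 3 * (2 ^ 7 * (3 ^ 5 * 5 ^ 3 * 7 * 11)) by norm_num] at h2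
  have hKd : Nat.card (K ⧸ center K) ∣ 2 ^ 3 * 3 ^ 5 * 5 ^ 3 * 7 * 11 := by
    have h1 := Nat.dvd_of_mul_dvd_mul_left (by norm_num) hK3
    have h2 : ¬ 2 ^ 4 ∣ Nat.card (K ⧸ center K) := fun h =>
      h16 ((show 16 ∣ Nat.card (K ⧸ center K) by simpa only [_root_.Nat.reducePow] using h).trans hKH)
    obtain ⟨a, b, ha, hb, hab⟩ := exists_dvd_and_dvd_of_dvd_mul h1
    obtain ⟨j, hj, hj2⟩ := (Nat.dvd_prime_pow Nat.prime_two).1 ha
    have hj3 : j ≤ 3 := by
      by_contra hlt
      apply h2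
      rw [hab, hj2]
      exact (pow_dvd_pow 2 (show 4 ≤ j by omega)).trans (dvd_mul_right _ _)
    rw [hab, hj2]
    have h3 : 2 ^ j * b ∣ 2 ^ 3 * (3 ^ 5 * 5 ^ 3 * 7 * 11) := mul_dvd_mul (pow_dvd_pow 2 hj3) hb
    simpa only [mul_assoc, _root_.Nat.reducePow, _root_.Nat.reduceMul] using h3
  have h27 : 27 ∣ Nat.card (K ⧸ center K) := by
    obtain ⟨u, hu, h1⟩ := Count.card_dvd FT h16 R K hK
    have h2 := Cent.card_inf_dvd Nat.prime_three R.2 u (not_27 L (u := (u : G)) (by rw [Subgroup.orderOf_coe, hu]))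
    have h3 : 3 ^ 5 ∣ 3 ^ (Nat.card (K ⧸ center K)).factorization 3 * 3 ^ 2 :=
      (hRc.trans h1).trans (mul_dvd_mul_left _ h2)
    rw [← pow_add] at h3
    have h4 := (Nat.pow_dvd_pow_iff_le_right (by norm_num)).1 h3
    have h5 : 3 ^ 3 ∣ Nat.card (K ⧸ center K) :=
      (Nat.prime_three.pow_dvd_iff_le_factorization Nat.card_pos.ne').2 (by omega)
    simpa only [_root_.Nat.reducePow] using h5
  have hs : IsSimpleGroup (K ⧸ center K) := hK.2.2
  obtain ⟨t, ht, -⟩ := exists_real_filter T (hS (K ⧸ center K)) (quot_not_comm hK.2)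
    (l := [(2, 3), (3, 5), (5, 3), (7, 1), (11, 1)]) (N := 2 ^ 3 * 3 ^ 5 * 5 ^ 3 * 7 * 11) (by decide +kernel) hKd
    (fun n => n % 27 == 0) (by simpa using Nat.mod_eq_zero_of_dvd h27)
  rw [show (cands [(2, 3), (3, 5), (5, 3), (7, 1), (11, 1)] (2 ^ 3 * 3 ^ 5 * 5 ^ 3 * 7 * 11)).filter
    (fun g => ordN g % 27 == 0) = [] from by decide +kernel] at ht
  exact absurd ht (List.not_mem_nil)

theorem comps {G : Type} [Group G] [Finite G] (L : MT 8 G) (hG : Nat.card G = 898128000)
    (h5 : ∀ x : G, orderOf x = 3 → 3 ^ 5 ∣ Nat.card (centralizer ({x} : Set G)))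
    (FT : ∀ (K : Type) [Group K] [Finite K], Odd (Nat.card K) → Group.IsSolvable K)
    (hS : AllKnown.{0}) (T : OrderTable.{0}) {x : G} (hx : orderOf x = 3) :
    Comps 3 ↥(centralizer ({x} : Set G)) := fun K hK => absurd hK (no_comp L hG h5 FT hS T hx K)

/-- `3 ^ 5` divides `|C(x)|`, `x` of order 3 -/
theorem dvd_card (x : Spor.McL) (hx : orderOf x = 3) : 3 ^ 5 ∣ Nat.card (centralizer ({x} : Set Spor.McL)) := by
  obtain ⟨e⟩ := McLType.X275.isoMcL_G1
  have h1 := McLBig.dvd_card (e.symm x) (by rw [MulEquiv.orderOf_eq, hx])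
  have h2 : (centralizer ({e.symm x} : Set _)).map e.toMonoidHom = centralizer ({x} : Set Spor.McL) := by
    ext y
    constructor
    · rintro ⟨c, hc, rfl⟩
      have hc' := congrArg e (mem_centralizer_singleton_iff.1 hc)
      rw [map_mul, map_mul, e.apply_symm_apply] at hc'
      exact mem_centralizer_singleton_iff.2 hc'
    · intro hy
      refine ⟨e.symm y, mem_centralizer_singleton_iff.2 ?_, e.apply_symm_apply y⟩
      rw [← map_mul, ← map_mul, mem_centralizer_singleton_iff.1 hy]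
  rw [← h2, card_map_of_injective e.injective]
  exact h1

/-- **row `McL`, `p = 3`** -/
theorem row (FT : ∀ (K : Type) [Group K] [Finite K], Odd (Nat.card K) → Group.IsSolvable K)
    (hS : AllKnown.{0}) (T : OrderTable.{0}) : AutC 3 Spor.McL := by
  have hiso : Spor.IsoMcL Spor.McL := ⟨MulEquiv.refl _⟩
  obtain ⟨hfin, hsi, hcard, ⟨L⟩⟩ := TypeM.FactsMcL.facts hiso
  have hnc : ¬ IsMulCommutative Spor.McL := by
    intro h
    have h1 : centralizer ({L.t} : Set Spor.McL) = ⊤ := by
      rw [eq_top_iff]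
      intro a _
      exact mem_centralizer_singleton_iff.2 (h.is_comm.comm a _)
    have h2 := card_C L
    rw [h1, card_top, hcard] at h2
    norm_num at h2
  refine autC_of_inner (center_eq_bot_of_simple hnc) (autInner_of_sq Nat.prime_three (by norm_num) ?_)
    (fun g hg => comps L hcard dvd_card FT hS T hg)
  intro φ
  obtain ⟨_, _, _, _, F⟩ := TypeM.LAll.exists_mcl hiso
  by_cases h : φ ∈ (MulAut.conj : Spor.McL →* MulAut Spor.McL).range
  · obtain ⟨g, hg⟩ := mul_mem h h
    exact ⟨g, hg.symm⟩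
  · obtain ⟨g, hg⟩ := F.o3 φ φ h h
    exact ⟨g, hg.symm⟩

end Cfsg.Agent.CpAut.SporThree.McL

end
end

private theorem dce_bcab18e3aeb1 : _root_.True := by
  try have : _root_.True := by simp only [_root_.Cfsg.Agent.CpAut.SporThree.McLBig.dOK.eq_1]
  try have : _root_.True := by simp only [_root_.Cfsg.Agent.CpAut.SporThree.McLBig.tOK.eq_1]
  try have : _root_.True := by simp only [_root_.Cfsg.Agent.CpAut.SporThree.McLBig.eqB.eq_1]
  exact _root_.True.intro
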